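import Cfsg.Agent.FixBN.Gates

/-!
# Normal subgroups of odd order and gate systems on the Sylow `p`-subgroups, `p` odd

`GSys.mem_of_odd` : if the Sylow `p`-subgroups of the finite group `H` form a chamber system with gates (`FixBN.Gates`),
`p` is odd and `X` is a normal subgroup of odd order, then a `p`-element of `X` lies in all Sylow `p`-subgroups.
-/

set_option autoImplicit false
set_option linter.unusedSectionVars false

open scoped Pointwise

namespace Cfsg.Agent.H31.OddGate

open Cfsg.Agent.FixBN.Gates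

variable {H : Type*} [Group H] [Finite H] {p : ℕ} [hp : Fact p.Prime]
variable {Pa : Set (Set (Sylow p H))} {d : Sylow p H → Sylow p H → ℕ}

/-- Panels have even cardinality. -/
theorem even_panel (hG : GSys Pa d) (hp2 : p ≠ 2) {S : Set (Sylow p H)} (hS : S ∈ Pa) {c : Sylow p H}
    (hc : c ∈ S) : Even S.ncard := by
  classical
  obtain ⟨b, hb, hbc, -⟩ := hG.three S hS c hc c hc
  have h3 : S \ {c} = MulAction.orbit (c : Subgroup H) b := by
    ext e
    constructor
    · rintro ⟨he, hec⟩
      obtain ⟨u, hu, huS, hue⟩ := (hG.gate_self hS hc).tr b hb e he hbc hec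
      exact ⟨⟨u, hu⟩, hue⟩
    · rintro ⟨⟨u, hu⟩, rfl⟩
      have h2 : u • S = S := hG.self S hS c hc u hu
      constructor
      · show u • b ∈ S
        rw [← h2]
        exact Set.smul_mem_smul_set hb
      · intro h4
        have h5 : u • b = c := h4
        have h6 : u • c = c := smul_self hu
        exact hbc (smul_left_cancel u (h5.trans h6.symm))
  have h4 : ∃ k, (S \ {c}).ncard = p ^ k := by
    rw [h3]
    exact c.isPGroup'.card_orbit b
  obtain ⟨k, hk⟩ := h4
  have hSf : S.Finite := Set.toFinite S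
  have h5 : (S \ {c}).ncard + 1 = S.ncard := Set.ncard_sdiff_singleton_add_one hc hSf
  rw [← h5, hk]
  exact (hp.out.odd_of_ne_two hp2).pow.add_odd odd_one

section

variable {X : Subgroup H} [hX : X.Normal]

include hX in
/-- A `p`-element of a normal subgroup of odd order which stabilises a panel fixes all its members. -/
theorem smul_eq_of_odd (hG : GSys Pa d) (hp2 : p ≠ 2) (hodd : Odd (Nat.card X)) {S : Set (Sylow p H)}
    (hS : S ∈ Pa) {r : H} (hr : r ∈ X) {e : Sylow p H} (hre : r ∈ e) (hrS : r • S = S) {b : Sylow p H}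
    (hb : b ∈ S) : r • b = b := by
  classical
  by_contra hrb
  obtain ⟨c, hc, hg⟩ := hG.gate S hS e
  have hrc : r • c = c := hg.fix r hre hrS
  have hrc' : r ∈ c := mem_of_smul_eq hre hrc
  have hbc : b ≠ c := by
    rintro rfl
    exact hrb hrc
  -- no common fixed points
  have hA : ∀ b' ∈ S, b' ≠ c → ∃ u ∈ X, u ∈ c ∧ u • b' ≠ b' := by
    intro b' hb' hn
    obtain ⟨u, hu, huS, hub⟩ := (hG.gate_self hS hc).tr b hb b' hb' hbc hn
    refine ⟨u * r * u⁻¹, hX.conj_mem r hr u, mul_mem (mul_mem hu hrc') (inv_mem hu), ?_⟩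
    intro h1
    apply hrb
    have h2 : (u * r * u⁻¹) • b' = u • r • b := by
      rw [← hub, mul_smul, mul_smul, inv_smul_smul]
    rw [h2, ← hub] at h1
    exact smul_left_cancel u h1
  have hB : ∀ c' ∈ S, ∀ b' ∈ S, b' ≠ c' → ∃ u ∈ X, u ∈ c' ∧ u • b' ≠ b' := by
    intro c' hc' b' hb' hn
    by_cases hcc : c' = c
    · rw [hcc] at hn ⊢
      exact hA b' hb' hn
    obtain ⟨f, hf, hf1, hf2⟩ := hG.three S hS c hc c' hc'
    obtain ⟨g, hg, hgS, hgc⟩ := (hG.gate_self hS hf).tr c hc c' hc' (Ne.symm hf1) (Ne.symm hf2)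
    have hgS' : g⁻¹ • S = S := by rw [inv_smul_eq_iff, hgS]
    have h1 : g⁻¹ • b' ∈ S := by
      rw [← hgS']
      exact Set.smul_mem_smul_set hb'
    obtain ⟨u, hu, huc, hub⟩ := hA _ h1 (by
      intro h2
      apply hn
      rw [← hgc, ← h2, smul_inv_smul])
    refine ⟨g * u * g⁻¹, hX.conj_mem u hu g, ?_, ?_⟩
    · rw [← hgc, mem_smul_iff]
      have : g⁻¹ * (g * u * g⁻¹) * g = u := by group
      rwa [this]
    · intro h2
      apply hub
      rw [mul_smul, mul_smul] at h2
      have h3 := congrArg (fun z => g⁻¹ • z) h2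
      simpa using h3
  -- the stabiliser in `X`
  obtain ⟨RS, hRS⟩ : ∃ RS : Subgroup H, RS = X ⊓ MulAction.stabilizer H S := ⟨_, rfl⟩
  have hmem : ∀ {u : H}, u ∈ RS ↔ u ∈ X ∧ u • S = S := by
    intro u
    rw [hRS]
    rfl
  have horbS : ∀ b' ∈ S, ∀ x ∈ MulAction.orbit RS b', x ∈ S := by
    rintro b' hb' _ ⟨u, rfl⟩
    have h1 := (hmem.1 u.2).2
    change (u : H) • b' ∈ S
    rw [← h1]
    exact Set.smul_mem_smul_set hb'
  -- the orbits
  have hmod : ∀ c' ∈ S, ∀ b' ∈ S, ∀ P : Subgroup RS, P = (c' : Subgroup H).subgroupOf RS →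
      Nat.card (MulAction.orbit RS b') ≡ Nat.card (MulAction.fixedPoints P (MulAction.orbit RS b')) [MOD p] := by
    intro c' hc' b' hb' P hP
    have h1 : IsPGroup p P := by
      rw [hP]
      exact c'.isPGroup'.comap_of_injective RS.subtype RS.subtype_injective
    exact h1.card_modEq_card_fixedPoints _
  have hfix : ∀ c' ∈ S, ∀ b' ∈ S, ∀ x : MulAction.orbit RS b',
      x ∈ MulAction.fixedPoints ((c' : Subgroup H).subgroupOf RS) (MulAction.orbit RS b') → (x : Sylow p H) = c' := by
    intro c' hc' b' hb' x hx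
    by_contra hne
    obtain ⟨u, huX, huc, hux⟩ := hB c' hc' x (horbS b' hb' x x.2) hne
    have huR : u ∈ RS := hmem.2 ⟨huX, hG.self S hS c' hc' u huc⟩
    have h1 := hx ⟨⟨u, huR⟩, huc⟩
    apply hux
    exact congrArg Subtype.val h1
  have htr : ∀ b' ∈ S, b' ∈ MulAction.orbit RS c := by
    intro b' hb'
    by_contra hn
    -- the orbit of `b'`
    have h1 : Nat.card (MulAction.fixedPoints ((c : Subgroup H).subgroupOf RS) (MulAction.orbit RS b')) = 0 := by
      rw [Nat.card_eq_zero]
      left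
      constructor
      rintro ⟨x, hx⟩
      apply hn
      have h2 := hfix c hc b' hb' x hx
      have h3 := x.2
      rw [h2] at h3
      exact MulAction.mem_orbit_symm.1 h3
    have h2 : Nat.card (MulAction.fixedPoints ((b' : Subgroup H).subgroupOf RS) (MulAction.orbit RS b')) = 1 := by
      rw [Nat.card_eq_one_iff_unique]
      refine ⟨⟨?_⟩, ⟨⟨⟨b', MulAction.mem_orbit_self b'⟩, ?_⟩⟩⟩
      · rintro ⟨x, hx⟩ ⟨y, hy⟩
        refine Subtype.ext (Subtype.ext ?_)
        exact (hfix b' hb' b' hb' x hx).trans (hfix b' hb' b' hb' y hy).symm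
      · rintro ⟨⟨u, huR⟩, hu⟩
        refine Subtype.ext ?_
        exact smul_self (a := b') hu
    have h3 := hmod c hc b' hb' _ rfl
    have h4 := hmod b' hb' b' hb' _ rfl
    rw [h1] at h3
    rw [h2] at h4
    have h5 : 0 ≡ 1 [MOD p] := h3.symm.trans h4
    have h6 := (Nat.modEq_iff_dvd' (Nat.zero_le 1)).1 h5
    exact hp.out.one_lt.ne' (Nat.dvd_one.1 h6)
  have h1 : S = MulAction.orbit RS c := Set.Subset.antisymm htr (horbS c hc)
  have h2 : S.ncard ∣ Nat.card X := by
    rw [h1, ← Nat.card_coe_set_eq]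
    have h3 : Nat.card (MulAction.orbit RS c) ∣ Nat.card RS := by
      rw [Nat.card_congr (MulAction.orbitEquivQuotientStabilizer RS c), ← Subgroup.index_eq_card]
      exact Subgroup.index_dvd_card _
    refine h3.trans ?_
    rw [hRS]
    exact Subgroup.card_dvd_of_le inf_le_left
  have h3 := Odd.of_dvd_nat hodd h2
  exact (Nat.not_odd_iff_even.2 (even_panel hG hp2 hS hc)) h3

include hX in
/-- A `p`-element of a normal subgroup of odd order lies in all Sylow `p`-subgroups. -/
theorem mem_of_odd (hG : GSys Pa d) (hp2 : p ≠ 2) (hodd : Odd (Nat.card X)) {r : H} (hr : r ∈ X)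
    {a : Sylow p H} (hra : r ∈ a) (b : Sylow p H) : r ∈ b := by
  induction hn : d a b using Nat.strong_induction_on generalizing b with
  | _ n ih =>
    by_cases hab : a = b
    · rw [← hab]; exact hra
    obtain ⟨S, hS, hbS, c, hc, hg, hne, hlt⟩ := hG.desc a b hab
    have h1 := ih _ (by rw [← hn]; exact hlt) c rfl
    have h2 := hG.self S hS c hc r h1
    exact mem_of_smul_eq h1 (smul_eq_of_odd hG hp2 hodd hS hr h1 h2 hbS)

end

end Cfsg.Agent.H31.OddGate
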