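import Cfsg.Agent.H286.OddNF
import Cfsg.Agent.H31.OddGate
import Cfsg.Agent.FixBN.GatesBldg
import Cfsg.Agent.FixBN.CompA
import Cfsg.Agent.Nodes.LeviDec

/-!
# The fixed points of an involutory automorphism in the normal form (for helper286, ODD-3)

`exists_nf` : every involutory automorphism `x` of a simple group with a root group datum of odd characteristic `p` is, up
to an inner automorphism, an automorphism `x'` in the normal form `NF` with set `J`; moreover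
(1) every `p`-subgroup of `C_K(x')` is conjugate in `C_K(x')` to a subgroup of the unipotent radical `V_J`;
(2) a normal subgroup of odd order of `C_K(x')` contains no nontrivial `p`-element.
-/

set_option autoImplicit false
set_option linter.unusedSectionVars false

open scoped Pointwise

namespace Cfsg.Agent.H31.OddNFP

open CoxeterSystem Cfsg.Agent.ChevalleyStructure.CoxeterGeom Cfsg.Agent.Tits.Roots Cfsg.Agent.Tits.Core
  Cfsg.Agent.Tits.RootComb Cfsg.Agent.Nodes.Comb Cfsg.Agent.Nodes.Reps Cfsg.Agent.Nodes.BNOf Cfsg.Agent.Nodes.BNOf.RGD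
  Cfsg.Agent.FixBN Cfsg.Agent.Tits.OfBN Cfsg.Agent.Tits.OppRes Cfsg.Agent.LieExceptional.BNPairCore
  Cfsg.Agent.OddHalf.Table.AutBldg Cfsg.Agent.OddHalf.Table.AutRGD Cfsg.Agent.OddHalf.Table.AutNorm
  Cfsg.Agent.Tits Cfsg.Agent.Nodes.RGDLib Cfsg.Agent.UGT.U2.FOne
open Cfsg.Agent.Tits.Core.Bldg
open Cfsg.Agent.FixBN.Cox (Par Ad)
open Cfsg.Agent.Tits.Exchange (exists_isLongest)

variable {I W K : Type*} [Fintype I] [DecidableEq I] [Group W] [Group K] {M : CoxeterMatrix I}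
  {cs : CoxeterSystem M W} {A : I → I → ℤ} {h : IsCartan M A} {T : Subgroup K} {n : I → K}
  {X : (I → ℤ) → Subgroup K} [Finite W] [Finite K]

/-- The conclusion (1): the `p`-subgroups of `C_K(x)` are conjugate in `C_K(x)` to subgroups of `V`. -/
def SylIn (p : ℕ) (x : MulAut K) (V : Subgroup K) : Prop :=
  ∀ Q : Subgroup K, IsPGroup p Q → (∀ u ∈ Q, x u = u) → ∃ k, x k = k ∧ ∀ u ∈ Q, k * u * k⁻¹ ∈ V

/-- The conclusion (2): no `p`-part in the normal subgroups of odd order of `C_K(x)`. -/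
def NoOddP (p : ℕ) (x : MulAut K) : Prop :=
  ∀ R : Subgroup K, (∀ u ∈ R, x u = u) → (∀ u ∈ R, ∀ k, x k = k → k * u * k⁻¹ ∈ R) → Odd (Nat.card R) →
    ∀ u ∈ R, (∃ m : ℕ, u ^ p ^ m = 1) → u = 1

section Tp

variable {p : ℕ} [hp : Fact p.Prime] (R : RGD cs h p T n X) (hgen : B cs h T X ⊔ NN cs R.nsys = ⊤)
  [hN : (((R.bnPair hgen).B ⊓ (R.bnPair hgen).N).subgroupOf (R.bnPair hgen).N).Normal]
  (cs' : CoxeterSystem M (WP (R.bnPair hgen)))
  (hcs : ∀ i, cs'.simple i = QuotientGroup.mk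
    (⟨(eS R hgen i : K), (R.bnPair hgen).subset (eS R hgen i).2⟩ : (R.bnPair hgen).N))
  (hcore : (B cs h T X).normalCore = ⊥)

/-- `O_p` of the standard parabolic: the radical of the residue is contained in `V_J`. -/
theorem UR_le_VJ {J : Set I} {u : K}
    (hu : u ∈ (Sy R hgen cs' hcs hcore).UR ((Bl R hgen cs' hcs).Res J (ch R hgen 1))) :
    u ∈ Nodes.LeviDec.VJ cs h X J := by
  have h1 : u ∈ Sup X (Pos cs h) := by
    have := (mem_Sy R hgen cs' hcs hcore).1 (hu (ch R hgen 1) (Bldg.self_mem_Res _ _ _))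
    simpa using this
  obtain ⟨u1, hu1, v, hv, rfl⟩ := (Nodes.LeviDec.mem_U_iff R (J := J)).1 h1
  obtain ⟨wj, hwj⟩ := exists_isLongest cs J
  obtain ⟨kJ, hkJ⟩ := exists_rp cs R.nsys wj
  have h2 : ch R hgen kJ⁻¹ ∈ (Bl R hgen cs' hcs).Res J (ch R hgen 1) := by
    rw [mem_Res, δ_rp R hgen cs' hcs rp_one hkJ.inv, inv_one, one_mul]
    exact fw_mem_WJ cs cs' (inv_mem hwj.1)
  have h3 := (mem_Sy R hgen cs' hcs hcore).1 (hu _ h2)
  rw [inv_inv] at h3
  have hkL : kJ ∈ Nodes.Bruhat.LJ cs h T X J := Nodes.Bruhat.rp_mem_LJ R hwj.1 hkJ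
  have hv' : kJ * v * kJ⁻¹ ∈ Nodes.LeviDec.VJ cs h X J :=
    (Subgroup.mem_normalizer_iff.1 (Nodes.LeviDec.LJ_le_normalizer_VJ R J hkL) v).1 hv
  have h4 : kJ * u1 * kJ⁻¹ ∈ Sup X (Pos cs h) := by
    have e : kJ * u1 * kJ⁻¹ = (kJ * (u1 * v) * kJ⁻¹) * (kJ * v * kJ⁻¹)⁻¹ := by group
    rw [e]
    exact mul_mem h3 (inv_mem (Nodes.LeviDec.VJ_le_U J hv'))
  have h5 : kJ * u1 * kJ⁻¹ ∈ Nodes.OppDec.BN cs h T X := by
    have h1' : cj kJ (Nodes.Bruhat.UJ cs h X J) ≤ Nodes.OppDec.UN cs h X := by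
      refine Nodes.Bruhat.cj_Sup_le R hkJ (fun x hx => hx.1) fun x hx => ?_
      exact ⟨hx.1.act _, Nodes.StabComb.rep_longest_nonpos hwj hx⟩
    exact Nodes.OppDec.UN_le_BN (h1' (conj_mem_cj.2 hu1))
  have h6 := Nodes.OppDec.eq_one_of_mem_U_of_mem_BN R h4 h5
  have h7 : u1 = 1 := by
    have e : u1 = kJ⁻¹ * (kJ * u1 * kJ⁻¹) * kJ := by group
    rw [e, h6]; group
  rw [h7, one_mul]
  exact hv

include hp hcore in
/-- Sylow subgroups of the centraliser and the radical of a good residue. -/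
theorem sylIn_of_gd (hp2 : p ≠ 2) (t : Tw (Bl R hgen cs' hcs) K) {J : Set I}
    (hgd : t.Gd J (ch R hgen 1)) : SylIn p (t.τ : MulAut K) (Nodes.LeviDec.VJ cs h X J) := by
  have hW : Finite (WP (R.bnPair hgen)) := inferInstance
  have hC' : Cox cs' := inferInstance
  have hth : (Bl R hgen cs' hcs).Thick := thick (R.bnPair hgen) (eS R hgen) cs' hcs
  intro Q hQ hQx
  have hP := Tw.P_syl (Sy R hgen cs' hcs hcore) hth hp2 hgd
  have hQc : Q ≤ t.cent := fun u hu => hQx u hu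
  obtain ⟨A', hA', hle⟩ := SylSub.exists_le hQc hQ
  obtain ⟨l, hl, hlA⟩ := hA'.exists_conj hP
  refine ⟨l, hl, fun u hu => ?_⟩
  have h1 := SylSub.conj_mem_smul (g := l) (hle hu)
  rw [hlA] at h1
  exact UR_le_VJ R hgen cs' hcs hcore h1.2

include hp hcore in
/-- No `p`-part in the normal subgroups of odd order. -/
theorem noOddP_of_gd (hp2 : p ≠ 2) (t : Tw (Bl R hgen cs' hcs) K) {J L : Set I} {c e : K ⧸ (R.bnPair hgen).B}
    (hopp : (Bl R hgen cs' hcs).δ c e = w0 cs') (hgd : t.Gd J c) (hgdL : t.Gd L e) :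
    NoOddP p (t.τ : MulAut K) := by
  have hW : Finite (WP (R.bnPair hgen)) := inferInstance
  have hC' : Cox cs' := inferInstance
  have hth : (Bl R hgen cs' hcs).Thick := thick (R.bnPair hgen) (eS R hgen) cs' hcs
  obtain ⟨S, hSdef⟩ : ∃ S, S = Sy R hgen cs' hcs hcore := ⟨_, rfl⟩
  intro Q hQx hQn hodd u hu hup
  have hQc : Q ≤ t.cent := fun u hu => hQx u hu
  obtain ⟨u', hu'⟩ : ∃ u' : ↥t.cent, (u' : K) = u := ⟨⟨u, hQc hu⟩, rfl⟩
  have hXn : (Q.subgroupOf t.cent).Normal := by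
    refine ⟨fun a ha g => ?_⟩
    exact hQn _ ha g g.2
  have hXodd : Odd (Nat.card ↥(Q.subgroupOf t.cent)) := by
    rw [SylSub.card_subgroupOf hQc]
    exact hodd
  have hPu : IsPGroup p (Subgroup.zpowers u') := by
    obtain ⟨m, hm⟩ := hup
    have h1 : u' ^ p ^ m = 1 := Subtype.ext (by rw [Subgroup.coe_pow, hu', hm]; rfl)
    rw [← hu'] at *
    intro ⟨y, hy⟩
    obtain ⟨i, rfl⟩ := Subgroup.mem_zpowers_iff.1 hy
    refine ⟨m, Subtype.ext ?_⟩
    change (u' ^ i) ^ p ^ m = 1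
    rw [← zpow_natCast, ← zpow_mul, mul_comm, zpow_mul, zpow_natCast, h1, one_zpow]
  obtain ⟨a, ha⟩ := hPu.exists_le_sylow
  have hua : u' ∈ a := ha (Subgroup.mem_zpowers u')
  have hG := Tw.gsys (t := t) S hth hp2
  have hall : ∀ b : Sylow p ↥t.cent, u' ∈ b := fun b =>
    H31.OddGate.mem_of_odd (X := Q.subgroupOf t.cent) hG hp2 hXodd
      (show u' ∈ Q.subgroupOf t.cent from Subgroup.mem_subgroupOf.2 (by rw [hu']; exact hu)) hua b
  obtain ⟨a1, ha1⟩ := Tw.rep_exists S hth hp2 hgd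
  obtain ⟨a2, ha2⟩ := Tw.rep_exists S hth hp2 hgdL
  have h1 := (ha1 u').1 (hall a1) c (Bldg.self_mem_Res _ _ _)
  have h2 := (ha2 u').1 (hall a2) e (Bldg.self_mem_Res _ _ _)
  rw [← hu']
  exact S.free c e hopp _ h1 (S.fix e _ h2)

include R hgen cs' hcs hcore in
theorem exists_nf_tp (hp2 : p ≠ 2) (hG : G1 cs h X = ⊤) (x : MulAut K) (hxx : ∀ g, x (x g) = g) (hx1 : x ≠ 1) :
    ∃ (k : K) (x' : MulAut K) (φ : W ≃* W) (σ : I → I) (J : Set I) (g : K),
      MulAut.congr (MulAut.conj k) x' = x ∧ NF cs h p T n X x' 1 φ σ J g ∧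
      SylIn p x' (Nodes.LeviDec.VJ cs h X J) ∧ NoOddP p x' := by
  have hS : Split (R.bnPair hgen) p (Sup X (Pos cs h)) := SplitRGD.split_of_rgd hp.out R hgen hcore
  have hW : Finite (WP (R.bnPair hgen)) := inferInstance
  have hC : Cox cs := inferInstance
  have hC' : Cox cs' := inferInstance
  have hth : (Bl R hgen cs' hcs).Thick := thick (R.bnPair hgen) (eS R hgen) cs' hcs
  obtain ⟨S, hSdef⟩ : ∃ S, S = Sy R hgen cs' hcs hcore := ⟨_, rfl⟩
  have hne : Nonempty (K ⧸ (R.bnPair hgen).B) := ⟨ch R hgen 1⟩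
  obtain ⟨t, ht⟩ := TwOfBN.exists_tw hS (eS R hgen) cs' hcs x hxx
  -- the two residues
  obtain ⟨J, L, b, c, e, hc, had, he, hce, hb, -, -⟩ := exists_apt S hth hp2 t
  obtain ⟨m0, hm0⟩ := exists_rp cs R.nsys (w0 cs)
  have hopp : (Bl R hgen cs' hcs).Opp (ch R hgen 1) (ch R hgen m0) := by
    change (Bl R hgen cs' hcs).δ _ _ = w0 cs'
    rw [δ_rp R hgen cs' hcs rp_one hm0, inv_one, one_mul, fw_w0 R hgen cs']
  have hopp' : (Bl R hgen cs' hcs).Opp c e := hce.trans had.long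
  obtain ⟨k, hk1, hk2⟩ := exists_pos S hopp hopp' (by
    induction c using QuotientGroup.induction_on with
    | _ a => exact ⟨a, by rw [smul_ch, mul_one]⟩)
  obtain ⟨t', ht'⟩ : ∃ t', t' = twCj S k t := ⟨_, rfl⟩
  obtain ⟨m', hm'⟩ : ∃ m' : Mv (Bl R hgen cs' hcs) K, m' = Mv.one _ _ := ⟨_, rfl⟩
  have hmτ : ∀ g, m'.τ g = g := by rw [hm']; exact fun _ => rfl
  have hmθ : ∀ c, m'.θ c = c := by rw [hm']; exact fun _ => rfl
  have hmφ : ∀ w, m'.φ w = w := by rw [hm']; exact fun _ => rfl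
  have hcd' : Cd t' m' p := by
    refine Cd.mk' S hth hmφ ?_ ?_ ⟨1, odd_one, ?_⟩
    · intro g
      rw [hmτ, hmτ]
    · intro v _ _
      rw [hmτ]
    · intro g
      rw [Function.iterate_one, hmτ]
  have hgd : t'.Gd J (ch R hgen 1) := by
    rw [ht']
    exact gd_twCj S k (by rw [hk1]; exact hc)
  have hgdL : t'.Gd L (ch R hgen m0) := by
    rw [ht']
    exact gd_twCj S k (by rw [hk2]; exact he)
  have hx' : MulAut.congr (MulAut.conj k) t'.τ = x := by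
    ext g
    change k * t'.τ (k⁻¹ * g * k) * k⁻¹ = x g
    rw [ht', twCj_τ, ht]
    have h1 : k * (k⁻¹ * g * k) * k⁻¹ = g := by group
    rw [h1]
    group
  have hm1 : (m'.τ : MulAut K) = 1 := MulEquiv.ext hmτ
  obtain ⟨g, hg⟩ := nf_core R hgen cs' hcs hcore hG t' m' hcd' (by
      by_contra hcon
      push Not at hcon
      apply hx1
      rw [← hx']
      have h1 : (t'.τ : MulAut K) = 1 := MulEquiv.ext hcon
      rw [h1, map_one]) (by rw [hm1, orderOf_one]; exact odd_one) hm0 hgd (by rw [ht']; exact had) hgdL (by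
      rw [ht', twCj_θ, hk1, ← hb, ← hk2]
      have h1 := S.iso k (k⁻¹ • t.θ c) (ch R hgen m0)
      rw [smul_inv_smul] at h1
      exact h1.symm) (by rw [hmθ]) (by rw [hmθ])
  rw [hm1] at hg
  exact ⟨k, t'.τ, _, _, _, g, hx', hg, sylIn_of_gd R hgen cs' hcs hcore hp2 t' hgd,
    noOddP_of_gd R hgen cs' hcs hcore hp2 t' hopp hgd hgdL⟩

end Tp

/-- **The normal form of an involutory automorphism**, with the Sylow `p`-subgroup of its fixed points. -/
theorem exists_nf [hs : IsSimpleGroup K] {p : ℕ} [hp : Fact p.Prime] (hp2 : p ≠ 2)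
    (R : RGD cs h p T n X) (hG : G1 cs h X = ⊤) (x : MulAut K) (hxx : ∀ g, x (x g) = g) (hx1 : x ≠ 1) :
    ∃ (k : K) (x' : MulAut K) (φ : W ≃* W) (σ : I → I) (J : Set I) (g : K),
      MulAut.congr (MulAut.conj k) x' = x ∧ NF cs h p T n X x' 1 φ σ J g ∧
      (∀ Q : Subgroup K, IsPGroup p Q → (∀ u ∈ Q, x' u = u) →
        ∃ k, x' k = k ∧ ∀ u ∈ Q, k * u * k⁻¹ ∈ Nodes.LeviDec.VJ cs h X J) ∧
      (∀ R : Subgroup K, (∀ u ∈ R, x' u = u) → (∀ u ∈ R, ∀ k, x' k = k → k * u * k⁻¹ ∈ R) →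
        Odd (Nat.card R) → ∀ u ∈ R, (∃ m : ℕ, u ^ p ^ m = 1) → u = 1) := by
  have hI := nonempty_of_G1 hG
  have hgen := rgd_gen_of_G1 R hG
  have hcore : (B cs h T X).normalCore = ⊥ :=
    Cfsg.Agent.Tits.OfBN.normalCore_eq_bot (R.bnPair hgen) ⟨n hI.some, hI.some, rfl⟩
  obtain ⟨hN, cs', hcs, hW, hS⟩ := exists_setup R hgen hcore
  exact exists_nf_tp R hgen cs' hcs hcore hp2 hG x hxx hx1

end Cfsg.Agent.H31.OddNFP
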