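import Mathlib

/-!
# Subsets with trivial stabiliser for actions of groups of odd prime power order (helper31)

* `exists_asym` : a finite `p`-group (`p` odd) acting on a finite set has a subset whose stabiliser acts trivially.
-/

set_option autoImplicit false

namespace Cfsg.Agent.H31.M3Asym

open MulAction Subgroup

variable {G α : Type*} [Group G] [MulAction G α] [Finite G] [Finite α] {p : ℕ} [hp : Fact p.Prime]

/-- `A` is an asymmetric subset of the orbit of `x` under `H` -/
def As (H : Subgroup G) (x : α) (A : Set α) : Prop :=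
  A ⊆ orbit H x ∧ ∀ h ∈ H, (∀ y ∈ orbit H x, (h • y ∈ A ↔ y ∈ A)) → ∀ y ∈ orbit H x, h • y = y

omit [Finite G] [Finite α] in
theorem smul_mem_orb {H : Subgroup G} {x y : α} {h : G} (hh : h ∈ H) (hy : y ∈ orbit H x) : h • y ∈ orbit H x := by
  obtain ⟨k, rfl⟩ := hy
  exact ⟨⟨h, hh⟩ * k, mul_smul (⟨h, hh⟩ : H) k x⟩

omit [Finite G] [Finite α] in
theorem As.compl {H : Subgroup G} {x : α} {A : Set α} (h : As H x A) : As H x (orbit H x \ A) := by
  refine ⟨Set.sdiff_subset, fun g hg hy => h.2 g hg fun y hyx => ?_⟩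
  have h1 := hy y hyx
  simp only [Set.mem_sdiff, smul_mem_orb hg hyx, hyx, true_and] at h1
  exact not_iff_not.1 h1

omit [Finite G] in
/-- small and large asymmetric sets -/
theorem As.sizes (hp2 : p ≠ 2) {H : Subgroup G} (hH : IsPGroup p H) {x : α} {A : Set α} (h : As H x A) :
    (∃ A, As H x A ∧ 2 * A.ncard < (orbit H x).ncard) ∧ ∃ A, As H x A ∧ (orbit H x).ncard < 2 * A.ncard := by
  have hodd : Odd (orbit H x).ncard := by
    obtain ⟨k, hk⟩ := hH.card_orbit x
    rw [← Nat.card_coe_set_eq, hk]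
    exact (hp.out.odd_of_ne_two hp2).pow
  have hsum : (orbit H x \ A).ncard + A.ncard = (orbit H x).ncard := Set.ncard_sdiff_add_ncard_of_subset h.1
  obtain ⟨j, hj⟩ := hodd
  rcases lt_or_ge (2 * A.ncard) (orbit H x).ncard with h1 | h1
  · exact ⟨⟨A, h, h1⟩, ⟨_, h.compl, by omega⟩⟩
  · exact ⟨⟨_, h.compl, by omega⟩, ⟨A, h, by omega⟩⟩

theorem exists_as (hp2 : p ≠ 2) : ∀ (n : ℕ) (H : Subgroup G), Nat.card H = n → IsPGroup p H → ∀ x : α, ∃ A, As H x A := by
  intro n
  induction n using Nat.strong_induction_on with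
  | _ n ih =>
    intro H hn hH x
    by_cases htop : H ≤ stabilizer G x
    · -- the orbit is a singleton
      refine ⟨∅, Set.empty_subset _, fun h hh _ y hy => ?_⟩
      obtain ⟨k, rfl⟩ := hy
      have h1 : (k : G) • x = x := htop k.2
      change h • ((k : G) • x) = (k : G) • x
      rw [h1]
      exact htop hh
    -- a maximal subgroup of `H` containing the stabiliser
    have hS : stabilizer H x ≠ ⊤ := by
      intro h1
      apply htop
      intro h hh
      have h2 : (⟨h, hh⟩ : H) ∈ stabilizer H x := by rw [h1]; exact mem_top _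
      exact h2
    obtain ⟨M, hM, hSM⟩ := (eq_top_or_exists_le_coatom (stabilizer H x)).resolve_left hS
    have : Group.IsNilpotent H := hH.isNilpotent
    have hMn : M.Normal := by
      have := Group.normalizerCondition_of_isNilpotent (G := H)
      exact NormalizerCondition.normal_of_coatom M this hM
    have hMt : M ≠ ⊤ := hM.1
    set M' : Subgroup G := M.map H.subtype with hM'
    have hM'H : M' ≤ H := by
      rintro _ ⟨y, -, rfl⟩
      exact y.2
    have hcard : Nat.card M' < n := by
      rw [← hn, hM', Nat.card_congr (M.equivMapOfInjective _ H.subtype_injective).toEquiv.symm]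
      exact lt_of_le_of_ne (Nat.le_of_dvd Nat.card_pos (card_subgroup_dvd_card M)) fun h1 => hMt (card_eq_iff_eq_top M |>.1 h1)
    have hM'p : IsPGroup p M' := hH.to_le hM'H
    have hstab : ∀ h ∈ H, h • x = x → h ∈ M' := fun h hh hx => ⟨⟨h, hh⟩, hSM hx, rfl⟩
    have hnorm : ∀ h ∈ H, ∀ m ∈ M', h * m * h⁻¹ ∈ M' := by
      rintro h hh _ ⟨m, hm, rfl⟩
      exact ⟨_, hMn.conj_mem m hm ⟨h, hh⟩, rfl⟩
    -- the orbits of `M'` are permuted by `H`
    have horb : ∀ h ∈ H, ∀ y : α, ∀ z, h • z ∈ orbit M' (h • y) ↔ z ∈ orbit M' y := by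
      intro h hh y z
      constructor
      · rintro ⟨m, hm⟩
        refine ⟨⟨h⁻¹ * m * h, ?_⟩, ?_⟩
        · have := hnorm h⁻¹ (H.inv_mem hh) m m.2
          rwa [inv_inv] at this
        · change (h⁻¹ * (m : G) * h) • y = z
          have h1 : (m : G) • h • y = h • z := hm
          rw [mul_smul, mul_smul, h1, inv_smul_smul]
      · rintro ⟨m, hm⟩
        refine ⟨⟨h * m * h⁻¹, hnorm h hh m m.2⟩, ?_⟩
        change (h * (m : G) * h⁻¹) • h • y = h • z
        have h1 : (m : G) • y = z := hm
        rw [mul_smul, inv_smul_smul, mul_smul, h1]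
    -- choose sets on the orbits
    have hex : ∀ O : Set α, ∃ A : Set α, ∀ y, O = orbit M' y → As M' y A ∧
        (O = orbit M' x → 2 * A.ncard < O.ncard) ∧ (O ≠ orbit M' x → O.ncard < 2 * A.ncard) := by
      intro O
      by_cases hO : ∃ y, O = orbit M' y
      · obtain ⟨y, rfl⟩ := hO
        obtain ⟨A, hA⟩ := ih _ hcard M' rfl hM'p y
        obtain ⟨⟨A1, h1, h2⟩, ⟨A2, h3, h4⟩⟩ := hA.sizes hp2 hM'p
        have key : ∀ B, As M' y B → ∀ z, orbit M' y = orbit M' z → As M' z B := by
          intro B hB z hz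
          rw [As, ← hz]
          exact hB
        by_cases hx : orbit M' y = orbit M' x
        · exact ⟨A1, fun z hz => ⟨key _ h1 z hz, fun _ => h2, fun h => absurd hx h⟩⟩
        · exact ⟨A2, fun z hz => ⟨key _ h3 z hz, fun h => absurd h hx, fun _ => h4⟩⟩
      · exact ⟨∅, fun y hy => absurd ⟨y, hy⟩ hO⟩
    choose f hf using hex
    refine ⟨{y | y ∈ orbit H x ∧ y ∈ f (orbit M' y)}, fun y hy => hy.1, fun h hh hpres y hy => ?_⟩
    have hle : ∀ y ∈ orbit H x, ∀ z ∈ orbit M' y, z ∈ orbit H x := by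
      rintro y hy z ⟨m, rfl⟩
      exact smul_mem_orb (hM'H m.2) hy
    have hself : ∀ y : α, y ∈ orbit M' y := fun y => mem_orbit_self (M := M') y
    have heq : ∀ y : α, ∀ z ∈ orbit M' y, orbit M' z = orbit M' y := fun y z hz => orbit_eq_iff.2 hz
    -- `h` maps `f (orbit y)` onto `f (orbit (h y))`
    have hfm : ∀ y ∈ orbit H x, ∀ z ∈ orbit M' y, (h • z ∈ f (orbit M' (h • y)) ↔ z ∈ f (orbit M' y)) := by
      intro y hy z hz
      have h1 := hpres z (hle y hy z hz)
      simp only [Set.mem_ofPred_eq, smul_mem_orb hh (hle y hy z hz), hle y hy z hz, true_and, heq y z hz,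
        heq (h • y) (h • z) ((horb h hh y z).2 hz)] at h1
      exact h1
    -- `h ∈ M'`
    have hhM : h ∈ M' := by
      have hx0 : x ∈ orbit H x := mem_orbit_self x
      have h1 : (f (orbit M' (h • x))).ncard = (f (orbit M' x)).ncard := by
        have h2 : f (orbit M' (h • x)) = (fun z => h • z) '' f (orbit M' x) := by
          ext z
          constructor
          · intro hz
            refine ⟨h⁻¹ • z, ?_, smul_inv_smul h z⟩
            have hz2 : h • h⁻¹ • z ∈ f (orbit M' (h • x)) := by rwa [smul_inv_smul]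
            have hz3 : h • h⁻¹ • z ∈ orbit M' (h • x) := (hf _ _ rfl).1.1 hz2
            exact (hfm x hx0 _ ((horb h hh x _).1 hz3)).1 hz2
          · rintro ⟨z, hz, rfl⟩
            exact (hfm x hx0 z ((hf _ _ rfl).1.1 hz)).2 hz
        rw [h2]
        exact Set.ncard_image_of_injective _ (MulAction.injective h)
      have h3 : (orbit M' (h • x)).ncard = (orbit M' x).ncard := by
        have h4 : orbit M' (h • x) = (fun z => h • z) '' orbit M' x := by
          ext z
          constructor
          · intro hz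
            exact ⟨h⁻¹ • z, (horb h hh x _).1 (by rwa [smul_inv_smul]), smul_inv_smul h z⟩
          · rintro ⟨z, hz, rfl⟩
            exact (horb h hh x z).2 hz
        rw [h4]
        exact Set.ncard_image_of_injective _ (MulAction.injective h)
      have h5 : orbit M' (h • x) = orbit M' x := by
        by_contra hne
        have h6 := (hf _ (h • x) rfl).2.2 hne
        have h7 := (hf _ x rfl).2.1 rfl
        rw [h1, h3] at h6
        omega
      have h8 : h • x ∈ orbit M' x := by rw [← h5]; exact hself _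
      obtain ⟨m, hm⟩ := h8
      have h9 : (m : G)⁻¹ * h ∈ M' := hstab _ (H.mul_mem (H.inv_mem (hM'H m.2)) hh) (by
        have h10 : (m : G) • x = h • x := hm
        rw [mul_smul, ← h10, inv_smul_smul])
      have : h = m * ((m : G)⁻¹ * h) := by group
      rw [this]
      exact M'.mul_mem m.2 h9
    have h10 : orbit M' (h • y) = orbit M' y := orbit_eq_iff.2 ⟨⟨h, hhM⟩, rfl⟩
    refine (hf _ y rfl).1.2 h hhM (fun z hz => ?_) y (hself y)
    have := hfm y hy z hz
    rwa [h10] at this

/-- **A finite `p`-group, `p` odd, has a subset with trivial stabiliser.** -/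
theorem exists_asym (hp2 : p ≠ 2) (hG : IsPGroup p G) :
    ∃ A : Set α, ∀ g : G, (∀ y : α, (g • y ∈ A ↔ y ∈ A)) → ∀ y : α, g • y = y := by
  have hex : ∀ O : Set α, ∃ A : Set α, ∀ y, O = orbit (⊤ : Subgroup G) y → As (⊤ : Subgroup G) y A := by
    intro O
    by_cases hO : ∃ y, O = orbit (⊤ : Subgroup G) y
    · obtain ⟨y, rfl⟩ := hO
      obtain ⟨A, hA⟩ := exists_as hp2 _ (⊤ : Subgroup G) rfl (hG.to_subgroup ⊤) y
      refine ⟨A, fun z hz => ?_⟩
      rw [As, ← hz]
      exact hA
    · exact ⟨∅, fun y hy => absurd ⟨y, hy⟩ hO⟩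
  choose f hf using hex
  refine ⟨{y | y ∈ f (orbit (⊤ : Subgroup G) y)}, fun g hg y => ?_⟩
  refine (hf _ y rfl).2 g (mem_top g) (fun z hz => ?_) y (mem_orbit_self y)
  have h1 := hg z
  have h2 : orbit (⊤ : Subgroup G) z = orbit (⊤ : Subgroup G) y := orbit_eq_iff.2 hz
  have h3 : orbit (⊤ : Subgroup G) (g • z) = orbit (⊤ : Subgroup G) y :=
    orbit_eq_iff.2 (smul_mem_orb (mem_top g) hz)
  simp only [Set.mem_ofPred_eq, h2, h3] at h1
  exact h1

end Cfsg.Agent.H31.M3Asym
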