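import Cfsg.Agent.S0287
import Cfsg.Agent.S0288

/-!
# The `3`-parts of the orders of the orthogonal groups over the field of two elements (helper31)
-/

set_option autoImplicit false

namespace Cfsg.Agent.H31.M3Card

instance : Fact (Nat.Prime 3) := ⟨by norm_num⟩

theorem v_four {n : ℕ} (hn : n ≠ 0) : padicValNat 3 (2 ^ (2 * n) - 1) = 1 + padicValNat 3 n := by
  have h := padicValNat.pow_sub_pow (p := 3) (by decide) (x := 4) (y := 1) (by norm_num) (by norm_num) (by norm_num) hn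
  rw [one_pow] at h
  rw [pow_mul]
  norm_num at h ⊢
  rw [h]

theorem four_ne {n : ℕ} (hn : n ≠ 0) : 2 ^ (2 * n) - 1 ≠ 0 := by
  have : 1 < 2 ^ (2 * n) := Nat.one_lt_two_pow (by omega)
  omega

theorem v_prod (n : ℕ) : padicValNat 3 (∏ i ∈ Finset.range n, (2 ^ (2 * (i + 1)) - 1)) =
    n + padicValNat 3 n.factorial := by
  induction n with
  | zero => simp
  | succ n ih =>
    rw [Finset.prod_range_succ, padicValNat.mul (Finset.prod_ne_zero_iff.2 fun i _ => four_ne (by omega))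
      (four_ne (by omega)), ih, v_four (by omega), Nat.factorial_succ,
      padicValNat.mul (by omega) (Nat.factorial_ne_zero n)]
    ring

theorem v_two_pow (n : ℕ) : padicValNat 3 (2 * 2 ^ n) = 0 := by
  apply padicValNat.eq_zero_of_not_dvd
  intro h
  rw [← pow_succ'] at h
  have := Nat.Prime.dvd_of_dvd_pow (by norm_num : Nat.Prime 3) h
  omega

theorem prod_ne (n : ℕ) : (∏ i ∈ Finset.range n, (2 ^ (2 * (i + 1)) - 1)) ≠ 0 :=
  Finset.prod_ne_zero_iff.2 fun i _ => four_ne (by omega)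

theorem v_form {n c : ℕ} (hc : c ≠ 0) (e : ℕ) :
    padicValNat 3 (2 * 2 ^ e * c * ∏ i ∈ Finset.range n, (2 ^ (2 * (i + 1)) - 1)) =
      padicValNat 3 c + (n + padicValNat 3 n.factorial) := by
  rw [padicValNat.mul (Nat.mul_ne_zero (Nat.mul_ne_zero (by norm_num) (by positivity)) hc) (prod_ne n),
    padicValNat.mul (Nat.mul_ne_zero (by norm_num) (by positivity)) hc, v_two_pow, v_prod, zero_add]

theorem v_DD (k : ℕ) : padicValNat 3 (3 ^ k * k.factorial) = k + padicValNat 3 k.factorial := by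
  rw [padicValNat.mul (by positivity) (Nat.factorial_ne_zero k), padicValNat.prime_pow]

theorem mod_three (n : ℕ) : 2 ^ (2 * n) % 3 = 1 := by
  rw [pow_mul]
  norm_num [Nat.pow_mod]

theorem mod_three' (n : ℕ) : 2 ^ (2 * n + 1) % 3 = 2 := by
  rw [pow_succ, Nat.mul_mod, mod_three]

theorem v_self_mul {j : ℕ} : padicValNat 3 (2 * j) = padicValNat 3 j := by
  rcases Nat.eq_zero_or_pos j with rfl | hj
  · rfl
  · rw [padicValNat.mul (by norm_num) (by omega)]
    have : padicValNat 3 2 = 0 := padicValNat.eq_zero_of_not_dvd (by norm_num)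
    rw [this, zero_add]

/-- plus type, even Witt index -/
theorem plus_even {j : ℕ} (hj : 1 ≤ j) : padicValNat 3 (Nat.card (Cfsg.isometryGroup (ZMod 2) (Cfsg.quadFormPlus (2 * j) (ZMod 2)))) =
    padicValNat 3 (3 ^ (2 * j) * (2 * j).factorial) := by
  rw [S0287.result (F := ZMod 2) (q := 2) (ZMod.card 2) (2 * j) (by omega), v_form (four_ne (by omega)), v_four (by omega), v_DD]
  obtain ⟨n, hn⟩ : ∃ n, 2 * j = n + 1 := ⟨2 * j - 1, by omega⟩
  have h1 : padicValNat 3 (2 * j).factorial = padicValNat 3 j + padicValNat 3 (2 * j - 1).factorial := by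
    rw [← v_self_mul (j := j), hn, Nat.factorial_succ, padicValNat.mul (by omega) (Nat.factorial_ne_zero n)]
    simp
  rw [h1]
  omega

/-- plus type, odd Witt index -/
theorem plus_odd {j : ℕ} : padicValNat 3 (Nat.card (Cfsg.isometryGroup (ZMod 2) (Cfsg.quadFormPlus (2 * j + 1) (ZMod 2)))) =
    padicValNat 3 (3 ^ (2 * j) * (2 * j).factorial) := by
  have h0 : 1 < 2 ^ (2 * j + 1) := Nat.one_lt_two_pow (by omega)
  rw [S0287.result (F := ZMod 2) (q := 2) (ZMod.card 2) (2 * j + 1) (by omega), v_form (by omega), v_DD]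
  have h1 : padicValNat 3 (2 ^ (2 * j + 1) - 1) = 0 := by
    apply padicValNat.eq_zero_of_not_dvd
    have := mod_three' j
    omega
  rw [h1]
  simp

/-- minus type, dimension `2 (2 j + 1)` -/
theorem minus_even {j : ℕ} {a b : ZMod 2} (hab : ∀ z₁ z₂ : ZMod 2, z₁ ^ 2 + a * z₁ * z₂ + b * z₂ ^ 2 = 0 → z₁ = 0 ∧ z₂ = 0) :
    padicValNat 3 (Nat.card (Cfsg.isometryGroup (ZMod 2) (Cfsg.quadFormMinus (2 * j) (ZMod 2) a b))) =
      padicValNat 3 (3 ^ (2 * j + 1) * (2 * j + 1).factorial) := by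
  have h := S0288.result (F := ZMod 2) (q := 2) (ZMod.card 2) (2 * j + 1) (by omega) a b hab
  rw [Nat.add_sub_cancel] at h
  rw [h, v_form (by positivity), v_DD]
  have h1 := padicValNat.pow_add_pow (p := 3) (by decide) (x := 2) (y := 1) (by norm_num) (by norm_num)
    (n := 2 * j + 1) ⟨j, rfl⟩
  rw [one_pow] at h1
  have h2 : padicValNat 3 (2 + 1) = 1 := by norm_num
  rw [h1, h2, Nat.factorial_succ, padicValNat.mul (by omega) (Nat.factorial_ne_zero _)]
  ring

/-- minus type, dimension `2 (2 j + 2)` -/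
theorem minus_odd {j : ℕ} {a b : ZMod 2} (hab : ∀ z₁ z₂ : ZMod 2, z₁ ^ 2 + a * z₁ * z₂ + b * z₂ ^ 2 = 0 → z₁ = 0 ∧ z₂ = 0) :
    padicValNat 3 (Nat.card (Cfsg.isometryGroup (ZMod 2) (Cfsg.quadFormMinus (2 * j + 1) (ZMod 2) a b))) =
      padicValNat 3 (3 ^ (2 * j + 1) * (2 * j + 1).factorial) := by
  have h := S0288.result (F := ZMod 2) (q := 2) (ZMod.card 2) (2 * j + 2) (by omega) a b hab
  have h3 : 2 * j + 2 - 1 = 2 * j + 1 := by omega
  rw [h3] at h
  rw [h, v_form (by positivity), v_DD]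
  have h1 : padicValNat 3 (2 ^ (2 * j + 2) + 1) = 0 := by
    apply padicValNat.eq_zero_of_not_dvd
    have h4 := mod_three (j + 1)
    have h5 : 2 * (j + 1) = 2 * j + 2 := by ring
    rw [h5] at h4
    omega
  rw [h1, zero_add]

end Cfsg.Agent.H31.M3Card
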