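import Mathlib

/-!
# `3`-groups of isometries over the field of two elements: the product of two transvections (helper31)

* `pol` : the polar form of `Q : V → ZMod 2`;
* `core` : if `v₁`, `v₂` are regular for the `3`-group `Γ` and avoid the small commutator spaces, then
  `x = t_{v₁} t_{v₂}` satisfies `Γ ∩ Γ ^ x = 1`.
-/

set_option autoImplicit false
set_option linter.unusedSectionVars false

namespace Cfsg.Agent.H31.M3Core

variable {V : Type*} [AddCommGroup V]

/-- the polar form (`ZMod 2`) -/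
def pol (Q : V → ZMod 2) (x y : V) : ZMod 2 := Q (x + y) + Q x + Q y

theorem pol_comm (Q : V → ZMod 2) (x y : V) : pol Q x y = pol Q y x := by
  unfold pol; rw [add_comm x y]; ring

theorem map_add_pol (Q : V → ZMod 2) (x y : V) : Q (x + y) = Q x + Q y + pol Q x y := by
  unfold pol
  have : ∀ a b c : ZMod 2, a = b + c + (a + b + c) := by decide
  exact this _ _ _

variable [Module (ZMod 2) V]

theorem add_self' (v : V) : v + v = 0 := ZModModule.add_self v

theorem add_eq_zero' {u v : V} : u + v = 0 ↔ u = v := by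
  constructor
  · intro h
    calc u = u + (v + v) := by rw [add_self', add_zero]
      _ = (u + v) + v := by abel
      _ = v := by rw [h, zero_add]
  · rintro rfl; exact add_self' u

theorem zsmul_cases (a : ZMod 2) : a = 0 ∨ a = 1 := by revert a; decide

theorem map_smul_of_add {y : V → V} (h : ∀ u v, y (u + v) = y u + y v) (a : ZMod 2) (v : V) : y (a • v) = a • y v := by
  rcases zsmul_cases a with rfl | rfl
  · rw [zero_smul, zero_smul]
    have := h 0 0
    rw [add_zero] at this
    exact left_eq_add.1 this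
  · rw [one_smul, one_smul]

/-- `Q` is a quadratic form with non-degenerate polar form -/
structure NQ (Q : V → ZMod 2) : Prop where
  badd : ∀ x y z, pol Q (x + y) z = pol Q x z + pol Q y z
  nd : ∀ x, (∀ y, pol Q x y = 0) → x = 0

namespace NQ

variable {Q : V → ZMod 2} (h : NQ Q)

include h

theorem zero_left (z : V) : pol Q 0 z = 0 := by
  have := h.badd 0 0 z
  rw [add_zero] at this
  exact left_eq_add.1 this

theorem map_zero : Q 0 = 0 := by
  have := h.zero_left 0
  unfold pol at this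
  rw [add_zero] at this
  revert this
  generalize Q 0 = a
  revert a
  decide

theorem badd_right (x y z : V) : pol Q x (y + z) = pol Q x y + pol Q x z := by
  rw [pol_comm, h.badd, pol_comm Q y, pol_comm Q z]

theorem self (x : V) : pol Q x x = 0 := by
  unfold pol
  rw [add_self', h.map_zero, zero_add]
  exact CharTwo.add_self_eq_zero _

theorem smul_left (a : ZMod 2) (x z : V) : pol Q (a • x) z = a * pol Q x z := by
  rcases zsmul_cases a with rfl | rfl
  · rw [zero_smul, zero_mul, h.zero_left]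
  · rw [one_smul, one_mul]

/-- for `v₁ ≠ v₂` non-zero some `u` has `(f(u, v₁), f(u, v₂)) = (1, 0)` -/
theorem exists_one_zero {v w : V} (hv : v ≠ 0) (hvw : v ≠ w) : ∃ u, pol Q u v = 1 ∧ pol Q u w = 0 := by
  by_contra hcon
  push Not at hcon
  have h1 : ∀ u, pol Q u v = 1 → pol Q u w = 1 := fun u hu => by
    rcases zsmul_cases (pol Q u w) with h0 | h0
    · exact absurd h0 (hcon u hu)
    · exact h0
  obtain ⟨u, hu⟩ : ∃ u, pol Q u v = 1 := by
    by_contra hc
    push Not at hc
    refine hv (h.nd v fun y => ?_)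
    rcases zsmul_cases (pol Q v y) with h0 | h0
    · exact h0
    · rw [pol_comm] at h0
      exact absurd h0 (hc y)
  have hvw' : v + w ≠ 0 := fun e => hvw (add_eq_zero'.1 e)
  obtain ⟨t, ht⟩ : ∃ t, pol Q t (v + w) = 1 := by
    by_contra hc
    push Not at hc
    refine hvw' (h.nd _ fun y => ?_)
    rcases zsmul_cases (pol Q (v + w) y) with h0 | h0
    · exact h0
    · rw [pol_comm] at h0
      exact absurd h0 (hc y)
  rw [h.badd_right] at ht
  rcases zsmul_cases (pol Q t v) with h0 | h0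
  · -- then `f(t, w) = 1`, and `u + t` works
    rw [h0, zero_add] at ht
    have h2 := h1 (u + t) (by rw [h.badd, hu, h0, add_zero])
    rw [h.badd, h1 u hu, ht] at h2
    revert h2
    decide
  · rw [h0, h1 t h0] at ht
    revert ht
    decide

end NQ

/-- an odd power -/
theorem fix_of_sq {y : Equiv.Perm V} {k : ℕ} (hy : y ^ 3 ^ k = 1) {v : V} (h : y (y v) = v) : y v = v := by
  have hodd : Odd (3 ^ k) := Odd.pow (by decide)
  obtain ⟨m, hm⟩ := hodd
  have h1 : ∀ m : ℕ, (y ^ (2 * m)) v = v := by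
    intro m
    induction m with
    | zero => simp
    | succ m ih =>
      have : 2 * (m + 1) = 2 * m + 1 + 1 := by ring
      rw [this, pow_succ, pow_succ, Equiv.Perm.mul_apply, Equiv.Perm.mul_apply, h, ih]
  have h2 : (y ^ 3 ^ k) v = v := by rw [hy]; rfl
  rw [hm, pow_succ', Equiv.Perm.mul_apply, h1] at h2
  exact h2

theorem core [Finite V] {Q : V → ZMod 2} (hQ : NQ Q) {Γ : Subgroup (Equiv.Perm V)} (h3 : IsPGroup 3 Γ)
    (hadd : ∀ y ∈ Γ, ∀ u v, y (u + v) = y u + y v) (hiso : ∀ y ∈ Γ, ∀ v, Q (y v) = Q v)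
    {v₁ v₂ : V} (h1 : Q v₁ = 1) (h2 : Q v₂ = 1) (h12 : pol Q v₁ v₂ = 0) (hne : v₁ ≠ v₂)
    (hfix : ∀ y ∈ Γ, y v₁ = v₁ → y v₂ = v₂ → y = 1)
    (hav : ∀ z ∈ Γ, z ≠ 1 → (Set.range fun u => z u + u).ncard ≤ 16 →
      ∀ u, z u + u ≠ v₁ ∧ z u + u ≠ v₂ ∧ z u + u ≠ v₁ + v₂)
    {x : Equiv.Perm V} (hx : ∀ u, x u = u + pol Q u v₁ • v₁ + pol Q u v₂ • v₂) :
    ∀ y ∈ Γ, x * y * x⁻¹ ∈ Γ → y = 1 := by
  intro y hy hxy
  have h0 : Q 0 = 0 := hQ.map_zero
  have hv1 : v₁ ≠ 0 := by rintro rfl; rw [h0] at h1; exact zero_ne_one h1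
  have hv2 : v₂ ≠ 0 := by rintro rfl; rw [h0] at h2; exact zero_ne_one h2
  have hE : ∀ u, x u + u = 0 ∨ x u + u = v₁ ∨ x u + u = v₂ ∨ x u + u = v₁ + v₂ := by
    intro u
    have e : x u + u = pol Q u v₁ • v₁ + pol Q u v₂ • v₂ := by
      rw [hx]
      calc u + pol Q u v₁ • v₁ + pol Q u v₂ • v₂ + u = (u + u) + (pol Q u v₁ • v₁ + pol Q u v₂ • v₂) := by abel
        _ = _ := by rw [add_self', zero_add]
    rw [e]
    rcases zsmul_cases (pol Q u v₁) with a | a <;> rcases zsmul_cases (pol Q u v₂) with b | b <;> rw [a, b] <;> simp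
  have hxadd : ∀ u v, x (u + v) = x u + x v := by
    intro u v
    rw [hx, hx, hx, hQ.badd, hQ.badd, add_smul, add_smul]
    abel
  have hxx : ∀ u, x (x u) = u := by
    intro u
    have e1 : pol Q (x u) v₁ = pol Q u v₁ := by
      rw [hx, hQ.badd, hQ.badd, hQ.smul_left, hQ.smul_left, hQ.self, pol_comm Q v₂, h12]; ring
    have e2 : pol Q (x u) v₂ = pol Q u v₂ := by
      rw [hx, hQ.badd, hQ.badd, hQ.smul_left, hQ.smul_left, hQ.self, h12]; ring
    rw [hx (x u), e1, e2, hx u]
    calc u + pol Q u v₁ • v₁ + pol Q u v₂ • v₂ + pol Q u v₁ • v₁ + pol Q u v₂ • v₂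
        = u + (pol Q u v₁ • v₁ + pol Q u v₁ • v₁) + (pol Q u v₂ • v₂ + pol Q u v₂ • v₂) := by abel
      _ = u := by rw [add_self', add_self', add_zero, add_zero]
  have hxi : x⁻¹ = x := by
    rw [inv_eq_iff_mul_eq_one]
    ext u
    exact hxx u
  set z : Equiv.Perm V := x * y * x⁻¹ * y⁻¹ with hz
  have hzΓ : z ∈ Γ := Γ.mul_mem hxy (Γ.inv_mem hy)
  obtain ⟨k, hk⟩ := h3 ⟨z, hzΓ⟩
  have hk' : z ^ 3 ^ k = 1 := congrArg Subtype.val hk
  have hyi : ∀ u, y (y⁻¹ u) = u := fun u => by rw [← Equiv.Perm.mul_apply, mul_inv_cancel]; rfl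
  by_cases hz1 : z = 1
  · -- `y` commutes with `x`
    have hcomm : ∀ u, x (y u) = y (x u) := by
      intro u
      have e : x * y = y * x := by
        rw [hz, mul_inv_eq_one, mul_inv_eq_iff_eq_mul] at hz1
        exact hz1
      exact DFunLike.congr_fun e u
    have hys : ∀ (a : ZMod 2) v, y (a • v) = a • y v := map_smul_of_add (hadd y hy)
    have hmem : ∀ u, pol Q u v₁ • y v₁ + pol Q u v₂ • y v₂ = x (y u) + y u := by
      intro u
      rw [hcomm, hx u, hadd y hy, hadd y hy, hys, hys]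
      calc pol Q u v₁ • y v₁ + pol Q u v₂ • y v₂ = (y u + y u) + (pol Q u v₁ • y v₁ + pol Q u v₂ • y v₂) := by
            rw [add_self', zero_add]
        _ = _ := by abel
    have hQ12 : Q (v₁ + v₂) = 0 := by rw [map_add_pol Q, h1, h2, h12]; decide
    have hin : ∀ w, Q w = 1 → (w = 0 ∨ w = v₁ ∨ w = v₂ ∨ w = v₁ + v₂) → w = v₁ ∨ w = v₂ := by
      intro w hw hc
      rcases hc with rfl | hc | hc | rfl
      · rw [h0] at hw; exact absurd hw zero_ne_one
      · exact Or.inl hc
      · exact Or.inr hc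
      · rw [hQ12] at hw; exact absurd hw zero_ne_one
    have m1 : y v₁ = v₁ ∨ y v₁ = v₂ := by
      obtain ⟨u, hu1, hu2⟩ := hQ.exists_one_zero hv1 hne
      refine hin _ (by rw [hiso y hy, h1]) ?_
      have e := hmem u
      rw [hu1, hu2, one_smul, zero_smul, add_zero] at e
      rw [e]
      exact hE _
    have m2 : y v₂ = v₁ ∨ y v₂ = v₂ := by
      obtain ⟨u, hu1, hu2⟩ := hQ.exists_one_zero hv2 hne.symm
      refine hin _ (by rw [hiso y hy, h2]) ?_
      have e := hmem u
      rw [hu1, hu2, one_smul, zero_smul, zero_add] at e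
      rw [e]
      exact hE _
    obtain ⟨l, hl⟩ := h3 ⟨y, hy⟩
    have hl' : y ^ 3 ^ l = 1 := congrArg Subtype.val hl
    rcases m1 with m1 | m1
    · rcases m2 with m2 | m2
      · exact absurd (y.injective (m1.trans m2.symm)) hne
      · exact hfix y hy m1 m2
    · rcases m2 with m2 | m2
      · have e := fix_of_sq hl' (v := v₁) (by rw [m1, m2])
        rw [m1] at e
        exact absurd e.symm hne
      · exact absurd (y.injective (m1.trans m2.symm)) hne
  · exfalso
    have hzadd : ∀ u v, z (u + v) = z u + z v := hadd z hzΓ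
    -- the commutator space is small
    have hzu : ∀ u, ∃ a b c d : ZMod 2, z u + u = a • y v₁ + b • y v₂ + c • v₁ + d • v₂ := by
      intro u
      have hys : ∀ (a : ZMod 2) v, y (a • v) = a • y v := map_smul_of_add (hadd y hy)
      refine ⟨pol Q (y⁻¹ u) v₁, pol Q (y⁻¹ u) v₂, pol Q (y (x (y⁻¹ u))) v₁, pol Q (y (x (y⁻¹ u))) v₂, ?_⟩
      have e : z u = x (y (x (y⁻¹ u))) := by rw [hz, hxi]; rfl
      rw [e, hx (y (x (y⁻¹ u)))]
      set a := pol Q (y (x (y⁻¹ u))) v₁
      set b := pol Q (y (x (y⁻¹ u))) v₂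
      rw [hx (y⁻¹ u), hadd y hy, hadd y hy, hys, hys, hyi]
      calc u + pol Q (y⁻¹ u) v₁ • y v₁ + pol Q (y⁻¹ u) v₂ • y v₂ + a • v₁ + b • v₂ + u
          = (u + u) + (pol Q (y⁻¹ u) v₁ • y v₁ + pol Q (y⁻¹ u) v₂ • y v₂ + a • v₁ + b • v₂) := by abel
        _ = _ := by rw [add_self', zero_add]
    have hcard : (Set.range fun u => z u + u).ncard ≤ 16 := by
      have hsub : (Set.range fun u => z u + u) ⊆ (fun t : ZMod 2 × ZMod 2 × ZMod 2 × ZMod 2 =>
          t.1 • y v₁ + t.2.1 • y v₂ + t.2.2.1 • v₁ + t.2.2.2 • v₂) '' Set.univ := by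
        rintro _ ⟨u, rfl⟩
        obtain ⟨a, b, c, d, e⟩ := hzu u
        exact ⟨(a, b, c, d), trivial, e.symm⟩
      refine (Set.ncard_le_ncard hsub (Set.toFinite _)).trans ((Set.ncard_image_le (Set.toFinite _)).trans ?_)
      rw [Set.ncard_univ]
      simp
    have hA := hav z hzΓ hz1 hcard
    -- `x` inverts `z`
    have hxz : ∀ u, x (z u) = z⁻¹ (x u) := by
      intro u
      have e : x * z = z⁻¹ * x := by
        have hx2 : x * x = 1 := by ext u; exact hxx u
        have e1 : z⁻¹ = y * (x * y⁻¹ * x) := by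
          rw [hz, hxi]
          simp only [mul_inv_rev, inv_inv, hxi]
          group
        rw [e1, hz, hxi]
        calc x * (x * y * x * y⁻¹) = (x * x) * y * x * y⁻¹ := by group
          _ = y * x * y⁻¹ := by rw [hx2, one_mul]
          _ = y * (x * y⁻¹) * (x * x) := by rw [hx2]; group
          _ = _ := by group
      exact DFunLike.congr_fun e u
    have hzi : ∀ u, z (z⁻¹ u) = u := fun u => by rw [← Equiv.Perm.mul_apply, mul_inv_cancel]; rfl
    -- `x` centralises `[V, z]`
    have hcen : ∀ u, x (z u + u) = z u + u := by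
      intro u
      rcases hE (z u + u) with e | e | e | e
      · exact add_eq_zero'.1 e
      all_goals
        exfalso
        have e2 : x (z u + u) + (z u + u) = z (z⁻¹ (x u) + u) + (z⁻¹ (x u) + u) := by
          rw [hxadd, hxz, hzadd, hzi]
          abel
        rw [e2] at e
      · exact (hA _).1 e
      · exact (hA _).2.1 e
      · exact (hA _).2.2 e
    apply hz1
    ext u
    -- `z` and `z⁻¹` agree on `[V, z]`
    have e1 : z (z u + u) = z⁻¹ (z u + u) := by
      have e2 := hxz (z u + u)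
      rw [hcen u] at e2
      rw [← e2]
      have e3 : z (z u + u) = z (z u) + z u := hzadd _ _
      rw [e3]
      exact (hcen (z u)).symm
    have e2 : z (z (z u + u)) = z u + u := by rw [e1, hzi]
    have e3 := fix_of_sq hk' e2
    -- `z (z u) = u`
    have e4 : z (z u) = u := by
      rw [hzadd] at e3
      have e5 : z (z u) + z u + z u = z u + u + z u := by rw [e3]
      rw [add_assoc, add_self', add_zero] at e5
      rw [e5]
      calc z u + u + z u = u + (z u + z u) := by abel
        _ = u := by rw [add_self', add_zero]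
    exact fix_of_sq hk' e4

end Cfsg.Agent.H31.M3Core
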