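import Cfsg.Agent.H31.M3Mod
import Cfsg.Prelude.Def_Classical

/-!
# The orthogonal spaces over the field of two elements as sums of planes (helper31)

* `plus_iso`, `minus_iso`.
-/

set_option autoImplicit false
set_option linter.unusedSectionVars false

namespace Cfsg.Agent.H31.M3Iso

open Cfsg.Agent.H31.M3Core Cfsg.Agent.H31.M3Mod Finset

/-- two hyperbolic planes are two elliptic planes -/
def th (a b : P) : P × P := ((a.2 + b.1 + b.2, a.1 + a.2), (a.1 + a.2 + b.2, b.1 + b.2))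

theorem th_form : ∀ a b : P, N (th a b).1 + N (th a b).2 = hyp a + hyp b := by decide
theorem th_add : ∀ a b c d : P, th (a + c) (b + d) = th a b + th c d := by decide
theorem th_zero : ∀ a b : P, th a b = 0 → a = 0 ∧ b = 0 := by decide

/-- the enumeration of the planes -/
def en (j t : ℕ) : (Fin j ⊕ Fin j) ⊕ Fin t ≃ Fin (j + j + t) :=
  (Equiv.sumCongr finSumFinEquiv (Equiv.refl _)).trans finSumFinEquiv

/-- the plane with number `i` -/
def pl {m : ℕ} (v : Fin m ⊕ Fin m → ZMod 2) (i : Fin m) : P := (v (.inl i), v (.inr i))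

theorem pl_add {m : ℕ} (u v : Fin m ⊕ Fin m → ZMod 2) (i : Fin m) : pl (u + v) i = pl u i + pl v i := rfl

/-- coordinates, plus type -/
def E (j t : ℕ) : (Fin (j + j + t) ⊕ Fin (j + j + t) → ZMod 2) →+ MM (Fin j ⊕ Fin j) (Fin t) :=
  AddMonoidHom.mk' (fun v => (fun s => Sum.elim
      (fun i => (th (pl v (en j t (.inl (.inl i)))) (pl v (en j t (.inl (.inr i))))).1)
      (fun i => (th (pl v (en j t (.inl (.inl i)))) (pl v (en j t (.inl (.inr i))))).2) s,
    fun l => pl v (en j t (.inr l)))) (by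
    intro u v
    refine Prod.ext (funext fun s => ?_) rfl
    rcases s with i | i
    · simp only [Sum.elim_inl, pl_add, th_add, Prod.fst_add, Pi.add_apply]
    · simp only [Sum.elim_inr, pl_add, th_add, Prod.snd_add, Prod.fst_add, Pi.add_apply])

theorem E_inl (j t : ℕ) (v) (i : Fin j) :
    (E j t v).1 (.inl i) = (th (pl v (en j t (.inl (.inl i)))) (pl v (en j t (.inl (.inr i))))).1 := rfl
theorem E_inr (j t : ℕ) (v) (i : Fin j) :
    (E j t v).1 (.inr i) = (th (pl v (en j t (.inl (.inl i)))) (pl v (en j t (.inl (.inr i))))).2 := rfl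
theorem E_snd (j t : ℕ) (v) (l : Fin t) : (E j t v).2 l = pl v (en j t (.inr l)) := rfl

theorem E_form (j t : ℕ) (v) : QM (E j t v) = Cfsg.quadFormPlus (j + j + t) (ZMod 2) v := by
  unfold QM Cfsg.quadFormPlus
  rw [Fintype.sum_sum_type]
  simp only [E_inl, E_inr, E_snd]
  rw [← sum_add_distrib]
  simp only [th_form]
  have h1 : ∀ i : Fin (j + j + t), v (.inl i) * v (.inr i) = hyp (pl v i) := fun i => rfl
  simp only [h1]
  rw [← Equiv.sum_comp (en j t), Fintype.sum_sum_type, Fintype.sum_sum_type, sum_add_distrib]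

theorem E_zero (j t : ℕ) (v) (h : E j t v = 0) : v = 0 := by
  have h1 : ∀ i, pl v (en j t (.inl (.inl i))) = 0 ∧ pl v (en j t (.inl (.inr i))) = 0 := by
    intro i
    apply th_zero
    refine Prod.ext ?_ ?_
    · rw [← E_inl, h]; rfl
    · rw [← E_inr, h]; rfl
  have h2 : ∀ l, pl v (en j t (.inr l)) = 0 := fun l => by rw [← E_snd, h]; rfl
  have h3 : ∀ i, pl v i = 0 := by
    intro i
    obtain ⟨s, rfl⟩ := (en j t).surjective i
    rcases s with (s | s) | s
    · exact (h1 s).1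
    · exact (h1 s).2
    · exact h2 s
  funext s
  rcases s with s | s
  · exact congrArg Prod.fst (h3 s)
  · exact congrArg Prod.snd (h3 s)

theorem card_MM (ι κ : Type) [Fintype ι] [DecidableEq ι] [Fintype κ] [DecidableEq κ] :
    Nat.card (MM ι κ) = 2 ^ (2 * Fintype.card ι + 2 * Fintype.card κ) := by
  rw [Nat.card_prod, Nat.card_fun, Nat.card_fun, Nat.card_prod, Nat.card_zmod, Nat.card_eq_fintype_card,
    Nat.card_eq_fintype_card, pow_add, pow_mul, pow_mul]
  norm_num

/-- an additive injective map between spaces of the same order -/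
theorem exists_equiv {V W : Type*} [AddCommGroup V] [AddCommGroup W] [Finite V] [Finite W] (f : V →+ W)
    (h : ∀ v, f v = 0 → v = 0) (hc : Nat.card V = Nat.card W) : ∃ e : V ≃+ W, ∀ v, e v = f v := by
  have hi : Function.Injective f := (injective_iff_map_eq_zero f).2 h
  have hb : Function.Bijective f := (Nat.bijective_iff_injective_and_card f).2 ⟨hi, hc⟩
  exact ⟨AddEquiv.ofBijective f hb, fun v => rfl⟩

theorem plus_iso (j t : ℕ) : ∃ e : (Fin (j + j + t) ⊕ Fin (j + j + t) → ZMod 2) ≃+ MM (Fin j ⊕ Fin j) (Fin t),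
    ∀ v, Cfsg.quadFormPlus (j + j + t) (ZMod 2) v = QM (e v) := by
  obtain ⟨e, he⟩ := exists_equiv (E j t) (E_zero j t) (by
    rw [card_MM, Nat.card_fun, Nat.card_zmod, Nat.card_eq_fintype_card]
    simp only [Fintype.card_sum, Fintype.card_fin]
    congr 1
    ring)
  exact ⟨e, fun v => by rw [he, E_form]⟩

theorem ab_eq : ∀ a b : ZMod 2, (∀ z₁ z₂ : ZMod 2, z₁ ^ 2 + a * z₁ * z₂ + b * z₂ ^ 2 = 0 → z₁ = 0 ∧ z₂ = 0) →
    a = 1 ∧ b = 1 := by decide

/-- coordinates, minus type -/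
def E' (j t : ℕ) : ((Fin (j + j + t) ⊕ Fin (j + j + t)) ⊕ Fin 2 → ZMod 2) →+ MM ((Fin j ⊕ Fin j) ⊕ Unit) (Fin t) :=
  AddMonoidHom.mk' (fun v => (fun s => Sum.elim (fun i => (E j t (fun x => v (.inl x))).1 i)
      (fun _ => (v (.inr 0), v (.inr 1))) s, (E j t (fun x => v (.inl x))).2)) (by
    intro u v
    have h : (fun x => (u + v) (Sum.inl x)) = (fun x => u (Sum.inl x)) + fun x => v (Sum.inl x) := rfl
    refine Prod.ext (funext fun s => ?_) ?_
    · rcases s with i | i
      · change (E j t (fun x => (u + v) (Sum.inl x))).1 i = _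
        rw [h, map_add]
        rfl
      · rfl
    · change (E j t (fun x => (u + v) (Sum.inl x))).2 = _
      rw [h, map_add]
      rfl)

theorem E'_inl (j t : ℕ) (v) (i) : (E' j t v).1 (.inl i) = (E j t (fun x => v (.inl x))).1 i := rfl
theorem E'_inr (j t : ℕ) (v) (i) : (E' j t v).1 (.inr i) = (v (.inr 0), v (.inr 1)) := rfl
theorem E'_snd (j t : ℕ) (v) : (E' j t v).2 = (E j t (fun x => v (.inl x))).2 := rfl

theorem E'_form (j t : ℕ) (v) : QM (E' j t v) = Cfsg.quadFormMinus (j + j + t) (ZMod 2) 1 1 v := by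
  have h1 := E_form j t (fun x => v (.inl x))
  have h2 : Cfsg.quadFormMinus (j + j + t) (ZMod 2) 1 1 v =
      Cfsg.quadFormPlus (j + j + t) (ZMod 2) (fun x => v (.inl x)) + N (v (.inr 0), v (.inr 1)) := by
    unfold Cfsg.quadFormMinus Cfsg.quadFormPlus N
    simp only
    ring
  rw [h2, ← h1]
  unfold QM
  rw [Fintype.sum_sum_type (f := fun i => N ((E' j t v).1 i))]
  simp only [E'_inl, E'_inr, E'_snd, univ_unique, sum_singleton]
  ring

theorem E'_zero (j t : ℕ) (v) (h : E' j t v = 0) : v = 0 := by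
  have h1 : (fun x => v (.inl x)) = 0 := by
    apply E_zero j t
    refine Prod.ext (funext fun i => ?_) ?_
    · rw [← E'_inl, h]; rfl
    · rw [← E'_snd, h]; rfl
  have h2 : ((v (.inr 0), v (.inr 1)) : P) = 0 := by rw [← E'_inr j t v (), h]; rfl
  funext s
  rcases s with s | s
  · exact congrFun h1 s
  · fin_cases s
    · exact congrArg Prod.fst h2
    · exact congrArg Prod.snd h2

theorem minus_iso (j t : ℕ) {a b : ZMod 2} (hab : ∀ z₁ z₂ : ZMod 2, z₁ ^ 2 + a * z₁ * z₂ + b * z₂ ^ 2 = 0 → z₁ = 0 ∧ z₂ = 0) :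
    ∃ e : ((Fin (j + j + t) ⊕ Fin (j + j + t)) ⊕ Fin 2 → ZMod 2) ≃+ MM ((Fin j ⊕ Fin j) ⊕ Unit) (Fin t),
    ∀ v, Cfsg.quadFormMinus (j + j + t) (ZMod 2) a b v = QM (e v) := by
  obtain ⟨rfl, rfl⟩ := ab_eq a b hab
  obtain ⟨e, he⟩ := exists_equiv (E' j t) (E'_zero j t) (by
    rw [card_MM, Nat.card_fun, Nat.card_zmod, Nat.card_eq_fintype_card]
    simp only [Fintype.card_sum, Fintype.card_fin, Fintype.card_unit]
    congr 1
    ring)
  exact ⟨e, fun v => by rw [he, E'_form]⟩

end Cfsg.Agent.H31.M3Iso
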