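import Cfsg.Agent.H31.M3Card
import Cfsg.Agent.H31.M3Iso
import Cfsg.Agent.H152.MeetOmega
import Cfsg.Agent.ClassicalGeometry.OrthDickson

/-!
# Sylow `3`-intersections in the orthogonal groups over the field of two elements (helper31)

* `meet3_POmega_two_plus` (dimension `2 m ≥ 10`), `meet3_POmega_two_minus` (dimension `2 m + 2 ≥ 8`).
-/

set_option autoImplicit false

namespace Cfsg.Agent.H31.M3Main

open Cfsg QuadraticMap Cfsg.Agent.H31.M3Core Cfsg.Agent.H31.M3Mod Cfsg.Agent.H903.SylSemi Cfsg.Agent.H903.SylMeet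
open Cfsg.Agent.ClassicalGeometry.Reflection Cfsg.Agent.ClassicalGeometry.OrthCharTwo
open Cfsg.Agent.ClassicalGeometry.OrthDickson
open scoped Matrix

/-- the additive isometries of `Q` -/
def IG {V : Type*} [AddCommGroup V] (Q : V → ZMod 2) : Subgroup (Equiv.Perm V) where
  carrier := {y | (∀ u v, y (u + v) = y u + y v) ∧ ∀ v, Q (y v) = Q v}
  mul_mem' := by
    rintro y z ⟨h1, h2⟩ ⟨h3, h4⟩
    exact ⟨fun u v => by rw [Equiv.Perm.mul_apply, h3, h1]; rfl, fun v => by rw [Equiv.Perm.mul_apply, h2, h4]⟩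
  one_mem' := ⟨fun _ _ => rfl, fun _ => rfl⟩
  inv_mem' := by
    rintro y ⟨h1, h2⟩
    have hy : ∀ u, y (y⁻¹ u) = u := fun u => by rw [← Equiv.Perm.mul_apply, mul_inv_cancel]; rfl
    refine ⟨fun u v => y.injective ?_, fun v => ?_⟩
    · rw [h1, hy, hy, hy]
    · rw [← h2 (y⁻¹ v), hy]

theorem mem_IG {V : Type*} [AddCommGroup V] {Q : V → ZMod 2} {y : Equiv.Perm V} :
    y ∈ IG Q ↔ (∀ u v, y (u + v) = y u + y v) ∧ ∀ v, Q (y v) = Q v := Iff.rfl

section card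

variable {ι : Type} [Fintype ι] [DecidableEq ι]

/-- the additive isometries are the isometries -/
theorem card_IG (Q : (ι → ZMod 2) → ZMod 2) : Nat.card (IG Q) = Nat.card (isometryGroup (ZMod 2) Q) := by
  symm
  refine Nat.card_congr (Equiv.ofBijective (fun g : isometryGroup (ZMod 2) Q =>
    (⟨H152.MeetOmega.rhoGL (g : Matrix.GeneralLinearGroup ι (ZMod 2)), fun u v => ?_, fun v => ?_⟩ : IG Q)) ⟨?_, ?_⟩)
  · rw [H152.MeetOmega.rhoGL_apply, H152.MeetOmega.rhoGL_apply, H152.MeetOmega.rhoGL_apply, Matrix.mulVec_add]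
  · rw [H152.MeetOmega.rhoGL_apply]
    exact g.2 v v
  · intro g h hgh
    exact Subtype.ext (H152.MeetOmega.rhoGL_injective (congrArg Subtype.val hgh))
  · rintro ⟨y, h1, h2⟩
    let f : (ι → ZMod 2) ≃ₗ[ZMod 2] (ι → ZMod 2) :=
      { y with
        map_add' := h1
        map_smul' := fun a v => map_smul_of_add h1 a v }
    let g : Matrix.GeneralLinearGroup ι (ZMod 2) :=
      Matrix.GeneralLinearGroup.toLin.symm (LinearMap.GeneralLinearGroup.generalLinearEquiv _ _ |>.symm f)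
    have hg : ∀ v, (g : Matrix ι ι (ZMod 2)) *ᵥ v = y v := by
      intro v
      have e : Matrix.GeneralLinearGroup.toLin g = (LinearMap.GeneralLinearGroup.generalLinearEquiv _ _).symm f :=
        MulEquiv.apply_symm_apply _ _
      have e2 := congrArg (fun u : LinearMap.GeneralLinearGroup (ZMod 2) (ι → ZMod 2) =>
        (u : (ι → ZMod 2) →ₗ[ZMod 2] (ι → ZMod 2)) v) e
      exact e2
    refine ⟨⟨g, ?_⟩, ?_⟩
    · intro v _
      change Q ((g : Matrix ι ι (ZMod 2)) *ᵥ v) = Q v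
      rw [hg, h2]
    · apply Subtype.ext
      ext v : 1
      exact hg v

end card

/-- the conjugation into a subgroup of index prime to `p` -/
theorem exists_conj {G : Type*} [Group G] [Finite G] {p : ℕ} [Fact p.Prime] {H Γ : Subgroup G} (hH : ¬ p ∣ H.index)
    (hΓ : IsPGroup p Γ) : ∃ g : G, ∀ y ∈ Γ, g⁻¹ * y * g ∈ H := by
  obtain ⟨x, hx⟩ := hΓ.nonempty_fixed_point_of_prime_not_dvd_card (G ⧸ H) hH
  obtain ⟨g, rfl⟩ := QuotientGroup.mk_surjective x
  refine ⟨g, fun y hy => ?_⟩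
  have h1 : (⟨y, hy⟩ : Γ) • (g : G ⧸ H) = g := hx ⟨y, hy⟩
  have h2 : ((y * g : G) : G ⧸ H) = g := h1
  have h3 := QuotientGroup.eq.1 h2.symm
  rwa [← mul_assoc] at h3

section main

variable {ι κ : Type} [Fintype ι] [DecidableEq ι] [Fintype κ] [DecidableEq κ]

theorem DD_le : DD ι κ ≤ IG QM := fun _ hy => mem_IG.2 (DD_iso hy)

variable {ι' : Type} [Fintype ι'] [DecidableEq ι']

/-- the transport of permutations -/
def trp {V W : Type*} (e : V ≃ W) : Equiv.Perm V ≃* Equiv.Perm W := e.permCongrHom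

theorem trp_apply {V W : Type*} (e : V ≃ W) (y : Equiv.Perm V) (w : W) : trp e y w = e (y (e.symm w)) := rfl

/-- the two vectors in `V` -/
theorem exists_pair' {Q : (ι' → ZMod 2) → ZMod 2} (e : (ι' → ZMod 2) ≃+ MM ι κ) (he : ∀ v, Q v = QM (e v))
    {t : ℕ} (htκ : Fintype.card κ = t) (ht : t = 0 ∨ t = 1)
    (h : (Even (Fintype.card ι) ∧ 6 ≤ Fintype.card ι + 2 * t) ∨ (Odd (Fintype.card ι) ∧ 5 ≤ Fintype.card ι + 2 * t))
    (hv : padicValNat 3 (Nat.card (isometryGroup (ZMod 2) Q)) =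
      padicValNat 3 (3 ^ Fintype.card ι * (Fintype.card ι).factorial))
    {Γ : Subgroup (Equiv.Perm (ι' → ZMod 2))} (hΓ : IsPGroup 3 Γ) (hΓI : Γ ≤ IG Q) :
    ∃ v₁ v₂ : ι' → ZMod 2, Q v₁ = 1 ∧ Q v₂ = 1 ∧ pol Q v₁ v₂ = 0 ∧ v₁ ≠ v₂ ∧
      (∀ y ∈ Γ, y v₁ = v₁ → y v₂ = v₂ → y = 1) ∧
      ∀ z ∈ Γ, z ≠ 1 → (Set.range fun u => z u + u).ncard ≤ 16 →
        ∀ u, z u + u ≠ v₁ ∧ z u + u ≠ v₂ ∧ z u + u ≠ v₁ + v₂ := by
  classical
  have hQe : ∀ w, QM w = Q (e.symm w) := fun w => by rw [he, AddEquiv.apply_symm_apply]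
  -- the isometry groups correspond
  have hIG : (IG Q).map (trp e.toEquiv).toMonoidHom = IG (QM : MM ι κ → ZMod 2) := by
    ext w
    constructor
    · rintro ⟨y, ⟨h1, h2⟩, rfl⟩
      refine ⟨fun u v => ?_, fun v => ?_⟩
      · change e (y (e.symm (u + v))) = e (y (e.symm u)) + e (y (e.symm v))
        rw [map_add, h1, map_add]
      · change QM (e (y (e.symm v))) = QM v
        rw [← he, h2, ← hQe]
    · rintro ⟨h1, h2⟩
      refine ⟨(trp e.toEquiv).symm w, ⟨fun u v => ?_, fun v => ?_⟩, MulEquiv.apply_symm_apply _ _⟩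
      · change e.symm (w (e (u + v))) = e.symm (w (e u)) + e.symm (w (e v))
        rw [map_add, h1, map_add]
      · change Q (e.symm (w (e v))) = Q v
        rw [he, AddEquiv.apply_symm_apply, h2, ← he]
  have hcard : Nat.card (IG (QM : MM ι κ → ZMod 2)) = Nat.card (isometryGroup (ZMod 2) Q) := by
    rw [← card_IG, ← hIG]
    exact (Nat.card_congr ((IG Q).equivMapOfInjective _ (trp e.toEquiv).injective).toEquiv).symm
  set X : Subgroup (Equiv.Perm (MM ι κ)) := IG QM with hX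
  have hidx : ¬ 3 ∣ ((DD ι κ).subgroupOf X).index := by
    intro h3
    have h4 : Nat.card ((DD ι κ).subgroupOf X) * ((DD ι κ).subgroupOf X).index = Nat.card X :=
      Subgroup.card_mul_index _
    have h5 : Nat.card ((DD ι κ).subgroupOf X) = 3 ^ Fintype.card ι * (Fintype.card ι).factorial := by
      rw [← card_DD (ι := ι) (κ := κ)]
      exact Nat.card_congr (Subgroup.subgroupOfEquivOfLe DD_le).toEquiv
    rw [h5, hcard] at h4
    have h6 : ((DD ι κ).subgroupOf X).index ≠ 0 := Subgroup.index_ne_zero_of_finite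
    have h7 := congrArg (padicValNat 3) h4
    rw [padicValNat.mul (by positivity) h6, hv] at h7
    have h8 := one_le_padicValNat_of_dvd h6 h3
    omega
  set Γ' : Subgroup (Equiv.Perm (MM ι κ)) := Γ.map (trp e.toEquiv).toMonoidHom with hΓ'
  have hΓ'X : Γ' ≤ X := by
    rw [hΓ', ← hIG]
    exact Subgroup.map_mono hΓI
  have hΓ'3 : IsPGroup 3 (Γ'.subgroupOf X) :=
    (hΓ.map _).comap_of_injective X.subtype X.subtype_injective
  obtain ⟨g, hg⟩ := exists_conj hidx hΓ'3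
  -- the conjugate inside `DD`
  set R : Subgroup (Equiv.Perm (MM ι κ)) := Γ'.map (MulAut.conj (g⁻¹ : Equiv.Perm (MM ι κ))).toMonoidHom with hR
  have hRD : R ≤ DD ι κ := by
    rintro _ ⟨y, hy, rfl⟩
    have h1 := hg ⟨y, hΓ'X hy⟩ hy
    have h2 : (g : Equiv.Perm (MM ι κ))⁻¹ * y * g ∈ DD ι κ := h1
    change (g⁻¹ : Equiv.Perm (MM ι κ)) * y * (g⁻¹ : Equiv.Perm (MM ι κ))⁻¹ ∈ DD ι κ
    rwa [inv_inv]
  have hR3 : IsPGroup 3 R := (hΓ.map _).map _
  obtain ⟨w₁, w₂, q1, q2, q12, qne, qfix, qav⟩ := exists_pair htκ ht h hR3 hRD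
  obtain ⟨gadd, giso⟩ := mem_IG.1 g.2
  -- the vectors `e⁻¹ (g w)`
  let F : MM ι κ → (ι' → ZMod 2) := fun w => e.symm ((g : Equiv.Perm (MM ι κ)) w)
  have hF : ∀ w, Q (F w) = QM w := fun w => by
    change Q (e.symm _) = _
    rw [← hQe, giso]
  have hFadd : ∀ u v, F (u + v) = F u + F v := fun u v => by
    change e.symm _ = e.symm _ + e.symm _
    rw [gadd, map_add]
  have hFi : Function.Injective F := e.symm.injective.comp (g : Equiv.Perm (MM ι κ)).injective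
  -- conjugation
  let c : Equiv.Perm (ι' → ZMod 2) → Equiv.Perm (MM ι κ) := fun y =>
    (g : Equiv.Perm (MM ι κ))⁻¹ * trp e.toEquiv y * g
  have hc : ∀ y w, F (c y w) = y (F w) := by
    intro y w
    change e.symm ((g : Equiv.Perm (MM ι κ)) ((g : Equiv.Perm (MM ι κ))⁻¹ (e (y (e.symm ((g : Equiv.Perm (MM ι κ)) w)))))) = _
    rw [← Equiv.Perm.mul_apply, mul_inv_cancel, Equiv.Perm.one_apply, AddEquiv.symm_apply_apply]
  have hcR : ∀ y ∈ Γ, c y ∈ R := by
    intro y hy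
    refine ⟨trp e.toEquiv y, ⟨y, hy, rfl⟩, ?_⟩
    change (g⁻¹ : Equiv.Perm (MM ι κ)) * trp e.toEquiv y * (g⁻¹ : Equiv.Perm (MM ι κ))⁻¹ = c y
    rw [inv_inv]
  have hFs : Function.Surjective F := by
    intro v
    refine ⟨(g : Equiv.Perm (MM ι κ))⁻¹ (e v), ?_⟩
    change e.symm ((g : Equiv.Perm (MM ι κ)) ((g : Equiv.Perm (MM ι κ))⁻¹ (e v))) = v
    rw [← Equiv.Perm.mul_apply, mul_inv_cancel, Equiv.Perm.one_apply, AddEquiv.symm_apply_apply]
  have hc1 : ∀ y, c y = 1 → y = 1 := by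
    intro y hy
    ext v : 1
    obtain ⟨w, rfl⟩ := hFs v
    rw [← hc, hy]
    rfl
  have hcz : ∀ z w, F (c z w + w) = z (F w) + F w := fun z w => by rw [hFadd, hc]
  refine ⟨F w₁, F w₂, by rw [hF, q1], by rw [hF, q2], ?_, fun h => qne (hFi h), fun y hy h1 h2 => ?_,
    fun z hz hz1 hn u => ?_⟩
  · unfold pol at q12 ⊢
    rw [← hFadd, hF, hF, hF]
    exact q12
  · refine hc1 y (qfix _ (hcR y hy) (hFi ?_) (hFi ?_))
    · rw [hc]; exact h1
    · rw [hc]; exact h2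
  · obtain ⟨w, rfl⟩ := hFs u
    have h2 := qav (c z) (hcR z hz) (fun h => hz1 (hc1 z h)) (by
      refine le_trans ?_ hn
      rw [← Set.ncard_image_of_injective _ hFi]
      refine Set.ncard_le_ncard ?_ (Set.toFinite _)
      rintro _ ⟨_, ⟨w, rfl⟩, rfl⟩
      exact ⟨F w, (hcz z w).symm⟩) w
    rw [← hcz, ← hFadd]
    exact ⟨fun h => h2.1 (hFi h), fun h => h2.2.1 (hFi h), fun h => h2.2.2 (hFi h)⟩

/-- **The geometric statement.** -/
theorem sepO {Q : QuadraticForm (ZMod 2) (ι' → ZMod 2)} (e : (ι' → ZMod 2) ≃+ MM ι κ) (he : ∀ v, Q v = QM (e v))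
    {t : ℕ} (htκ : Fintype.card κ = t) (ht : t = 0 ∨ t = 1)
    (h : (Even (Fintype.card ι) ∧ 6 ≤ Fintype.card ι + 2 * t) ∨ (Odd (Fintype.card ι) ∧ 5 ≤ Fintype.card ι + 2 * t))
    (hv : padicValNat 3 (Nat.card (isometryGroup (ZMod 2) ⇑Q)) =
      padicValNat 3 (3 ^ Fintype.card ι * (Fintype.card ι).factorial)) (h4 : Fintype.card ι' ≠ 4) :
    SepO 3 (ZMod 2) ⇑Q := by
  intro Γ hΓ hΓS _
  have hneg : ∀ x : ZMod 2, -x = x := by decide
  have hpol : ∀ x y, polar (⇑Q) x y = pol ⇑Q x y := fun x y => by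
    unfold polar pol
    rw [sub_eq_add_neg, sub_eq_add_neg, hneg, hneg]
  have hu : ∀ a : (ZMod 2)ˣ, (a : ZMod 2) = 1 := by decide
  have hid : ∀ θ : ZMod 2 ≃+* ZMod 2, ∀ a, θ a = a := by
    intro θ a
    rcases zsmul_cases a with rfl | rfl
    · exact map_zero θ
    · exact map_one θ
  have hΓI : Γ ≤ IG ⇑Q := by
    intro y hy
    obtain ⟨θ, c, hc, h1, h2⟩ := hΓS y hy
    refine mem_IG.2 ⟨h1.1, fun v => ?_⟩
    rw [h2, hid]
    rcases zsmul_cases c with rfl | rfl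
    · exact absurd rfl hc
    · rw [one_mul]
  have hN : NQ ⇑Q := by
    have hpe : ∀ x y, pol (⇑Q) x y = pol QM (e x) (e y) := fun x y => by
      unfold pol; rw [he, he, he, map_add]
    refine ⟨fun x y z => ?_, fun x hx => ?_⟩
    · rw [hpe, hpe, hpe, map_add, nq.badd]
    · have h1 := nq.nd (e x) fun w => by
        rw [← AddEquiv.apply_symm_apply e w, ← hpe]
        exact hx _
      exact (AddEquiv.map_eq_zero_iff e).1 h1
  obtain ⟨v₁, v₂, q1, q2, q12, qne, qfix, qav⟩ := exists_pair' e he htκ ht h hv hΓ hΓI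
  have hq1 : Q v₁ ≠ 0 := by rw [q1]; decide
  have hq2 : Q v₂ ≠ 0 := by rw [q2]; decide
  have hnd : (polarBilin Q).Nondegenerate := by
    refine H208.Parity.nondegenerate fun x hx => hN.nd x fun y => ?_
    rw [← hpol]; exact hx y
  have hcom := refl_mul_refl_mem_two Q (by decide) hnd (Or.inr h4) v₂ v₁ hq2 hq1
  set s : ↥(Omega (ZMod 2) ⇑Q) := ⟨reflIso Q v₂ hq2 * reflIso Q v₁ hq1, hcom⟩ with hs
  have hsv : ∀ u, H152.MeetOmega.rho ⇑Q s u = u + pol ⇑Q u v₁ • v₁ + pol ⇑Q u v₂ • v₂ := by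
    intro u
    have e1 : H152.MeetOmega.rho ⇑Q s u = act (reflIso Q v₂ hq2 * reflIso Q v₁ hq1) u := rfl
    have hr : ∀ (v : ι' → ZMod 2) (hv : Q v ≠ 0) (u : ι' → ZMod 2), Q v = 1 →
        act (reflIso Q v hv) u = u + pol ⇑Q u v • v := by
      intro v hv u hv1
      rw [act_refl, hv1, inv_one, one_mul, hpol, pol_comm, sub_eq_add_neg, ← neg_smul, hneg]
    rw [e1, Cfsg.Agent.ClassicalGeometry.OrthCharTwo.act_mul, hr _ _ _ q1, hr _ _ _ q2, hN.badd, hN.smul_left, q12]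
    rw [mul_zero, add_zero]
  refine ⟨H152.MeetOmega.rho ⇑Q s, ⟨s, fun v => rfl⟩, fun y hy ⟨a, ha⟩ => ⟨1, ?_⟩⟩
  have hscal : ∀ a : (ZMod 2)ˣ, scal (ZMod 2) (ι' → ZMod 2) a = 1 := by
    intro a
    ext v : 1
    rw [scal_apply, hu, one_smul]
    rfl
  rw [hscal, one_mul] at ha
  rw [hscal]
  exact core hN hΓ (fun y hy => (mem_IG.1 (hΓI hy)).1) (fun y hy => (mem_IG.1 (hΓI hy)).2) q1 q2 q12 qne qfix qav hsv
    y hy ha

end main

section rows

open Cfsg.Agent.LieClassical.OrthCore Cfsg.Agent.LieClassical.OrthTrans Cfsg.Agent.LieClassical.QuadForms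
open Cfsg.Agent.AutOrth.Main

theorem sep_plus {m : ℕ} (h5 : 5 ≤ m) : SepO 3 (ZMod 2) (Cfsg.quadFormPlus m (ZMod 2)) := by
  rcases Nat.even_or_odd' m with ⟨j, rfl | rfl⟩
  · obtain ⟨e, he⟩ := M3Iso.plus_iso j 0
    have h2 : 2 * j = j + j + 0 := by omega
    have hv := M3Card.plus_even (j := j) (by omega)
    rw [h2] at hv ⊢
    revert he hv
    rw [← coe_plusForm]
    intro he hv
    refine sepO e he (t := 0) (by simp) (Or.inl rfl) (Or.inl ⟨?_, ?_⟩) ?_ ?_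
    · rw [Fintype.card_sum, Fintype.card_fin]; exact ⟨j, rfl⟩
    · rw [Fintype.card_sum, Fintype.card_fin]; omega
    · rw [hv, Fintype.card_sum, Fintype.card_fin, Nat.add_zero]
    · rw [Fintype.card_sum, Fintype.card_fin]; omega
  · obtain ⟨e, he⟩ := M3Iso.plus_iso j 1
    have h2 : 2 * j + 1 = j + j + 1 := by omega
    have hv := M3Card.plus_odd (j := j)
    rw [h2] at hv ⊢
    revert he hv
    rw [← coe_plusForm]
    intro he hv
    refine sepO e he (t := 1) (by simp) (Or.inr rfl) (Or.inl ⟨?_, ?_⟩) ?_ ?_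
    · rw [Fintype.card_sum, Fintype.card_fin]; exact ⟨j, rfl⟩
    · rw [Fintype.card_sum, Fintype.card_fin]; omega
    · rw [hv, Fintype.card_sum, Fintype.card_fin, two_mul]
    · rw [Fintype.card_sum, Fintype.card_fin]; omega

theorem sep_minus {m : ℕ} (h3 : 3 ≤ m) (a b : ZMod 2)
    (hab : ∀ z₁ z₂ : ZMod 2, z₁ ^ 2 + a * z₁ * z₂ + b * z₂ ^ 2 = 0 → z₁ = 0 ∧ z₂ = 0) :
    SepO 3 (ZMod 2) (Cfsg.quadFormMinus m (ZMod 2) a b) := by
  rcases Nat.even_or_odd' m with ⟨j, rfl | rfl⟩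
  · obtain ⟨e, he⟩ := M3Iso.minus_iso j 0 hab
    have h2 : 2 * j = j + j + 0 := by omega
    have hv := M3Card.minus_even (j := j) hab
    rw [h2] at hv ⊢
    revert he hv
    rw [← coe_minusForm]
    intro he hv
    refine sepO e he (t := 0) (by simp) (Or.inl rfl) (Or.inr ⟨?_, ?_⟩) ?_ ?_
    · rw [Fintype.card_sum, Fintype.card_sum, Fintype.card_fin, Fintype.card_unit]; exact ⟨j, by ring⟩
    · rw [Fintype.card_sum, Fintype.card_sum, Fintype.card_fin, Fintype.card_unit]; omega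
    · rw [hv, Fintype.card_sum, Fintype.card_sum, Fintype.card_fin, Fintype.card_unit, Nat.add_zero]
    · rw [Fintype.card_sum, Fintype.card_sum, Fintype.card_fin, Fintype.card_fin]; omega
  · obtain ⟨e, he⟩ := M3Iso.minus_iso j 1 hab
    have h2 : 2 * j + 1 = j + j + 1 := by omega
    have hv := M3Card.minus_odd (j := j) hab
    rw [h2] at hv ⊢
    revert he hv
    rw [← coe_minusForm]
    intro he hv
    refine sepO e he (t := 1) (by simp) (Or.inr rfl) (Or.inr ⟨?_, ?_⟩) ?_ ?_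
    · rw [Fintype.card_sum, Fintype.card_sum, Fintype.card_fin, Fintype.card_unit]; exact ⟨j, by ring⟩
    · rw [Fintype.card_sum, Fintype.card_sum, Fintype.card_fin, Fintype.card_unit]; omega
    · rw [hv, Fintype.card_sum, Fintype.card_sum, Fintype.card_fin, Fintype.card_unit]
    · rw [Fintype.card_sum, Fintype.card_sum, Fintype.card_fin, Fintype.card_fin]; omega

/-- **Task 1190, plus type** : `p = 3`, `q = 2`. -/
theorem meet3_POmega_two_plus {m : ℕ} (hm : 5 ≤ m) : Meet 3 (Cfsg.POmega (ZMod 2) (Cfsg.quadFormPlus m (ZMod 2))) := by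
  have h1 : ∀ P : Subgroup (MulAut (POmega (ZMod 2) (quadFormPlus m (ZMod 2)))), IsPGroup 3 P → ∀ β ∈ P,
    AutOrth.Main.Ind (quadFormPlus m (ZMod 2)) β := fun _ _ β _ => all_plus hm β
  have h := sep_plus hm
  revert h h1
  rw [← coe_plusForm]
  intro h1 h
  exact H152.MeetOmega.meet_of (good_plus (by omega)) h1 h

/-- **Task 1190, minus type** : `p = 3`, `q = 2`. -/
theorem meet3_POmega_two_minus {m : ℕ} (hm : 3 ≤ m) (a b : ZMod 2)
    (hab : ∀ z₁ z₂ : ZMod 2, z₁ ^ 2 + a * z₁ * z₂ + b * z₂ ^ 2 = 0 → z₁ = 0 ∧ z₂ = 0) :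
    Meet 3 (Cfsg.POmega (ZMod 2) (Cfsg.quadFormMinus m (ZMod 2) a b)) :=
  H152.MeetOmega.meet_POmega_minus hm a b hab (sep_minus hm a b hab)

end rows

end Cfsg.Agent.H31.M3Main
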