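import Cfsg.Agent.H31.M3Asym
import Cfsg.Agent.H31.M3Core

/-!
# The model: an orthogonal sum of minus planes and of hyperbolic planes over the field of two elements (helper31)

* `MM ι κ = (ι → P) × (κ → P)`, `QM`;
* `DD` : the group `3 wr Sym ι`, its order;
* `exists_pair` : for a `3`-subgroup `R` of `DD` two vectors as in `M3Core.core`.
-/

set_option autoImplicit false
set_option linter.unusedSectionVars false

namespace Cfsg.Agent.H31.M3Mod

open Cfsg.Agent.H31.M3Core Finset

/-- the plane -/
abbrev P := ZMod 2 × ZMod 2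

/-- the elliptic form -/
def N (a : P) : ZMod 2 := a.1 * a.1 + a.1 * a.2 + a.2 * a.2

/-- the hyperbolic form -/
def hyp (a : P) : ZMod 2 := a.1 * a.2

/-- the rotations -/
def rz (c : ZMod 3) (a : P) : P := if c = 0 then a else if c = 1 then (a.2, a.1 + a.2) else (a.1 + a.2, a.1)

theorem rz_add : ∀ (c d : ZMod 3) (a : P), rz (c + d) a = rz c (rz d a) := by decide
theorem rz_zero : ∀ a : P, rz 0 a = a := by decide
theorem rz_map_add : ∀ (c : ZMod 3) (a b : P), rz c (a + b) = rz c a + rz c b := by decide
theorem rz_map_zero : ∀ (c : ZMod 3), rz c 0 = 0 := by decide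
theorem rz_eq_zero : ∀ (c : ZMod 3) (a : P), rz c a = 0 → a = 0 := by decide
theorem N_rz : ∀ (c : ZMod 3) (a : P), N (rz c a) = N a := by decide
theorem rz_fix : ∀ (c : ZMod 3) (a : P), rz c a = a → c ≠ 0 → a = 0 := by decide
theorem rz_inj : ∀ (c d : ZMod 3), rz c (1, 0) = rz d (1, 0) → c = d := by decide
theorem rz_ne : ∀ (c : ZMod 3), rz c (1, 0) ≠ 0 := by decide
theorem N_badd : ∀ a b c : P, pol N (a + b) c = pol N a c + pol N b c := by unfold pol; decide
theorem hyp_badd : ∀ a b c : P, pol hyp (a + b) c = pol hyp a c + pol hyp b c := by unfold pol; decide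
theorem N_nd : ∀ a : P, (∀ b : P, pol N a b = 0) → a = 0 := by unfold pol; decide
theorem hyp_nd : ∀ a : P, (∀ b : P, pol hyp a b = 0) → a = 0 := by unfold pol; decide
theorem N_zero : N 0 = 0 := by decide
theorem hyp_zero : hyp 0 = 0 := by decide
theorem pol_N_zero : ∀ a : P, pol N a 0 = 0 := by unfold pol; decide
theorem pol_hyp_zero : ∀ a : P, pol hyp a 0 = 0 := by unfold pol; decide

variable {ι κ : Type} [Fintype ι] [DecidableEq ι] [Fintype κ] [DecidableEq κ]

/-- the space -/
abbrev MM (ι κ : Type) := (ι → P) × (κ → P)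

/-- the form -/
def QM (v : MM ι κ) : ZMod 2 := ∑ i, N (v.1 i) + ∑ j, hyp (v.2 j)

theorem pol_QM (u v : MM ι κ) : pol QM u v = ∑ i, pol N (u.1 i) (v.1 i) + ∑ j, pol hyp (u.2 j) (v.2 j) := by
  unfold pol QM
  simp only [Prod.fst_add, Prod.snd_add, Pi.add_apply, sum_add_distrib]
  ring

theorem nq : NQ (QM : MM ι κ → ZMod 2) where
  badd x y z := by
    simp only [pol_QM, Prod.fst_add, Prod.snd_add, Pi.add_apply, N_badd, hyp_badd, sum_add_distrib]
    ring
  nd x hx := by
    have h1 : ∀ i, x.1 i = 0 := by
      intro i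
      refine N_nd _ fun b => ?_
      have h2 := hx (Pi.single i b, 0)
      rw [pol_QM, Finset.sum_eq_single i, Finset.sum_eq_zero, add_zero] at h2
      · simpa using h2
      · intro j _
        exact pol_hyp_zero _
      · intro j _ hj
        simp only [Pi.single_eq_of_ne hj]
        exact pol_N_zero _
      · intro h; exact absurd (mem_univ i) h
    have h1' : ∀ j, x.2 j = 0 := by
      intro i
      refine hyp_nd _ fun b => ?_
      have h2 := hx (0, Pi.single i b)
      rw [pol_QM, Finset.sum_eq_single i (s := univ) (f := fun j => pol hyp (x.2 j) _), Finset.sum_eq_zero, zero_add] at h2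
      · simpa using h2
      · intro j _
        exact pol_N_zero _
      · intro j _ hj
        simp only [Pi.single_eq_of_ne hj]
        exact pol_hyp_zero _
      · intro h; exact absurd (mem_univ i) h
    exact Prod.ext (funext h1) (funext h1')

/-! ### The wreath product -/

/-- the monomial maps -/
def act (f : ι → ZMod 3) (σ : Equiv.Perm ι) : Equiv.Perm (MM ι κ) where
  toFun v := (fun i => rz (f i) (v.1 (σ⁻¹ i)), v.2)
  invFun v := (fun i => rz (-f (σ i)) (v.1 (σ i)), v.2)
  left_inv v := by
    refine Prod.ext (funext fun i => ?_) rfl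
    change rz (-f (σ i)) (rz (f (σ i)) (v.1 (σ⁻¹ (σ i)))) = v.1 i
    rw [← rz_add, neg_add_cancel, rz_zero]
    simp
  right_inv v := by
    refine Prod.ext (funext fun i => ?_) rfl
    change rz (f i) (rz (-f (σ (σ⁻¹ i))) (v.1 (σ (σ⁻¹ i)))) = v.1 i
    have : σ (σ⁻¹ i) = i := by simp
    rw [this, ← rz_add, add_neg_cancel, rz_zero]

theorem act_fst (f : ι → ZMod 3) (σ : Equiv.Perm ι) (v : MM ι κ) (i : ι) :
    (act f σ v).1 i = rz (f i) (v.1 (σ⁻¹ i)) := rfl

theorem act_snd (f : ι → ZMod 3) (σ : Equiv.Perm ι) (v : MM ι κ) : (act f σ v).2 = v.2 := rfl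

theorem act_mul (f g : ι → ZMod 3) (σ τ : Equiv.Perm ι) :
    (act f σ * act g τ : Equiv.Perm (MM ι κ)) = act (fun i => f i + g (σ⁻¹ i)) (σ * τ) := by
  ext v : 1
  refine Prod.ext (funext fun i => ?_) rfl
  change rz (f i) (rz (g (σ⁻¹ i)) (v.1 (τ⁻¹ (σ⁻¹ i)))) = rz (f i + g (σ⁻¹ i)) (v.1 ((σ * τ)⁻¹ i))
  rw [rz_add, mul_inv_rev]
  rfl

theorem act_one : (act 0 1 : Equiv.Perm (MM ι κ)) = 1 := by
  ext v : 1
  refine Prod.ext (funext fun i => ?_) rfl
  change rz 0 (v.1 _) = _
  rw [rz_zero]; rfl

theorem act_inj {f g : ι → ZMod 3} {σ τ : Equiv.Perm ι} (h : (act f σ : Equiv.Perm (MM ι κ)) = act g τ) :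
    f = g ∧ σ = τ := by
  have h1 : ∀ (v : ι → P) i, rz (f i) (v (σ⁻¹ i)) = rz (g i) (v (τ⁻¹ i)) := fun v i =>
    congrFun (congrArg Prod.fst (DFunLike.congr_fun h (v, 0))) i
  have h2 : ∀ i, σ⁻¹ i = τ⁻¹ i := by
    intro i
    by_contra hne
    have h3 := h1 (Pi.single (σ⁻¹ i) (1, 0)) i
    rw [Pi.single_eq_same, Pi.single_eq_of_ne (Ne.symm hne), rz_map_zero] at h3
    exact rz_ne _ h3
  have h3 : σ⁻¹ = τ⁻¹ := Equiv.ext h2
  refine ⟨funext fun i => ?_, inv_injective h3⟩
  have h4 := h1 (Pi.single (σ⁻¹ i) (1, 0)) i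
  rw [h2 i, Pi.single_eq_same] at h4
  exact rz_inj _ _ h4

/-- the group `3 wr Sym ι` -/
def DD (ι κ : Type) [Fintype ι] [DecidableEq ι] [Fintype κ] [DecidableEq κ] : Subgroup (Equiv.Perm (MM ι κ)) where
  carrier := {y | ∃ f σ, y = act f σ}
  mul_mem' := by
    rintro _ _ ⟨f, σ, rfl⟩ ⟨g, τ, rfl⟩
    exact ⟨_, _, act_mul f g σ τ⟩
  one_mem' := ⟨0, 1, act_one.symm⟩
  inv_mem' := by
    rintro _ ⟨f, σ, rfl⟩
    refine ⟨fun i => -f (σ i), σ⁻¹, ?_⟩
    rw [inv_eq_iff_mul_eq_one, act_mul]
    have h1 : (fun i => f i + -f (σ (σ⁻¹ i))) = 0 := by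
      funext i
      have : σ (σ⁻¹ i) = i := by simp
      rw [this, add_neg_cancel]; rfl
    rw [h1, mul_inv_cancel, act_one]

theorem mem_DD {y : Equiv.Perm (MM ι κ)} : y ∈ DD ι κ ↔ ∃ f σ, y = act f σ := Iff.rfl

theorem card_DD : Nat.card (DD ι κ) = 3 ^ Fintype.card ι * (Fintype.card ι).factorial := by
  have e : Nat.card (DD ι κ) = Nat.card ((ι → ZMod 3) × Equiv.Perm ι) := by
    refine (Nat.card_congr (Equiv.ofBijective
      (fun t : (ι → ZMod 3) × Equiv.Perm ι => (⟨act t.1 t.2, _, _, rfl⟩ : DD ι κ)) ⟨?_, ?_⟩)).symm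
    · rintro ⟨f, σ⟩ ⟨g, τ⟩ h
      obtain ⟨h1, h2⟩ := act_inj (congrArg Subtype.val h)
      exact Prod.ext h1 h2
    · rintro ⟨_, f, σ, rfl⟩
      exact ⟨(f, σ), rfl⟩
  rw [e, Nat.card_prod, Nat.card_perm, Nat.card_fun, Nat.card_zmod, Nat.card_eq_fintype_card]

theorem DD_iso {y : Equiv.Perm (MM ι κ)} (hy : y ∈ DD ι κ) :
    (∀ u v, y (u + v) = y u + y v) ∧ ∀ v, QM (y v) = QM v := by
  obtain ⟨f, σ, rfl⟩ := hy
  refine ⟨fun u v => Prod.ext (funext fun i => ?_) rfl, fun v => ?_⟩
  · change rz (f i) ((u.1 + v.1) (σ⁻¹ i)) = _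
    rw [Pi.add_apply, rz_map_add]
    rfl
  · unfold QM
    congr 1
    calc ∑ i, N ((act f σ v).1 i) = ∑ i, N (v.1 (σ⁻¹ i)) := sum_congr rfl fun i _ => N_rz _ _
      _ = ∑ i, N (v.1 i) := Equiv.sum_comp σ⁻¹ fun i => N (v.1 i)

/-- the permutation of the planes -/
noncomputable def perm : DD ι κ →* Equiv.Perm ι :=
  MonoidHom.mk' (fun y => y.2.choose_spec.choose) (by
    intro y z
    have hy := y.2.choose_spec.choose_spec
    have hz := z.2.choose_spec.choose_spec
    have hyz := (y * z).2.choose_spec.choose_spec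
    have h1 := Subgroup.coe_mul (DD ι κ) y z
    rw [hyz, hy, hz, act_mul] at h1
    exact (act_inj h1).2)

theorem perm_act {f : ι → ZMod 3} {σ : Equiv.Perm ι} (h : act f σ ∈ DD ι κ) : perm (⟨act f σ, h⟩ : DD ι κ) = σ :=
  (act_inj ((⟨act f σ, h⟩ : DD ι κ).2.choose_spec.choose_spec)).2.symm

/-! ### Colourings -/

/-- `c` has no symmetry in `Γ` -/
def Asy (Γ : Subgroup (Equiv.Perm ι)) (c : ι → Fin 5) : Prop := ∀ σ ∈ Γ, (∀ i, c (σ i) = c i) → σ = 1

theorem exists_two {Γ : Subgroup (Equiv.Perm ι)} (hΓ : IsPGroup 3 Γ) :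
    ∃ c : ι → Fin 5, Asy Γ c ∧ ∀ i, c i = 0 ∨ c i = 1 := by
  classical
  have : Fact (Nat.Prime 3) := ⟨by norm_num⟩
  obtain ⟨A, hA⟩ := M3Asym.exists_asym (G := Γ) (α := ι) (p := 3) (by norm_num) hΓ
  refine ⟨fun i => if i ∈ A then 0 else 1, fun σ hσ h => ?_, fun i => ?_⟩
  · have h1 := hA ⟨σ, hσ⟩ fun y => by
      have h2 := h y
      have h3 : (⟨σ, hσ⟩ : Γ) • y = σ y := rfl
      rw [h3]
      by_cases h4 : σ y ∈ A <;> by_cases h5 : y ∈ A <;> simp [h4, h5] at h2 ⊢
    exact Equiv.ext fun y => h1 y
  · by_cases h : i ∈ A <;> simp [h]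

theorem Asy.update {Γ : Subgroup (Equiv.Perm ι)} {c : ι → Fin 5} (h : Asy Γ c) (q : ι) {x : Fin 5} (hx : ∀ i, c i ≠ x) :
    Asy Γ (Function.update c q x) := by
  intro σ hσ hp
  have hval : ∀ i, Function.update c q x i = x → i = q := by
    intro i hi
    by_contra hne
    rw [Function.update_of_ne hne] at hi
    exact hx i hi
  have hq : σ q = q := hval _ (by rw [hp q, Function.update_self])
  refine h σ hσ fun i => ?_
  by_cases hi : i = q
  · rw [hi, hq]
  · have h1 : σ i ≠ q := fun e => hi (σ.injective (e.trans hq.symm))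
    have h2 := hp i
    rwa [Function.update_of_ne h1, Function.update_of_ne hi] at h2

theorem sum_update {c : ι → Fin 5} (g : Fin 5 → ZMod 2) (q : ι) (x : Fin 5) :
    ∑ i, g (Function.update c q x i) = ∑ i, g (c i) + g (c q) + g x := by
  rw [← Finset.add_sum_erase univ (fun i => g (Function.update c q x i)) (mem_univ q),
    ← Finset.add_sum_erase univ (fun i => g (c i)) (mem_univ q)]
  have h1 : ∑ i ∈ univ.erase q, g (Function.update c q x i) = ∑ i ∈ univ.erase q, g (c i) :=
    sum_congr rfl fun i hi => by rw [Function.update_of_ne (ne_of_mem_erase hi)]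
  rw [h1, Function.update_self]
  have : ∀ a b s : ZMod 2, a + s = b + s + b + a := by decide
  exact this _ _ _

/-- the two components of the five types -/
def cA : Fin 5 → P := ![(1, 0), (1, 0), (0, 0), (1, 0), (1, 0)]
def cB : Fin 5 → P := ![(0, 1), (1, 1), (1, 0), (0, 0), (1, 0)]

theorem col_eq : ∀ (c c' : Fin 5) (d : ZMod 3), rz d (cA c) = cA c' → rz d (cB c) = cB c' → c = c' ∧ d = 0 := by
  decide

/-- the numerical conditions -/
structure Cnd (k t : ℕ) (Γ : Subgroup (Equiv.Perm ι)) (c : ι → Fin 5) : Prop where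
  asy : Asy Γ c
  nA : ∑ i, N (cA (c i)) = 1
  nB : ∑ i, N (cB (c i)) = 1
  nAB : ∑ i, pol N (cA (c i)) (cB (c i)) = t
  two : t = 0 → ∀ i j, c i = 2 → c j = 2 → i = j
  three : t = 0 → ∀ i j, c i = 3 → c j = 3 → i = j
  four : t = 0 → ∀ i j, c i = 4 → c j = 4 → i = j
  five : t = 0 → 5 ≤ k

theorem g01 {c : ι → Fin 5} (hc : ∀ i, c i = 0 ∨ c i = 1) (g : Fin 5 → ZMod 2) (g0 : g 0 = 1) (g1 : g 1 = 1) :
    (∀ i, g (c i) = 1) ∧ ∑ i, g (c i) = (Fintype.card ι : ZMod 2) := by
  have h1 : ∀ i, g (c i) = 1 := fun i => by rcases hc i with h | h <;> rw [h] <;> assumption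
  refine ⟨h1, ?_⟩
  rw [sum_congr rfl fun i _ => h1 i]
  simp

theorem exists_cnd {Γ : Subgroup (Equiv.Perm ι)} (hΓ : IsPGroup 3 Γ) {t : ℕ} (ht : t = 0 ∨ t = 1)
    (h : (Even (Fintype.card ι) ∧ 6 ≤ Fintype.card ι + 2 * t) ∨ (Odd (Fintype.card ι) ∧ 5 ≤ Fintype.card ι + 2 * t)) :
    ∃ c, Cnd (Fintype.card ι) t Γ c := by
  classical
  obtain ⟨c, hc, hc01⟩ := exists_two hΓ
  have hA := g01 hc01 (fun x => N (cA x)) (by decide) (by decide)
  have hB := g01 hc01 (fun x => N (cB x)) (by decide) (by decide)
  have hAB := g01 hc01 (fun x => pol N (cA x) (cB x)) (by unfold pol; decide) (by unfold pol; decide)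
  beta_reduce at hA hB hAB
  have c2 : ∀ i, c i ≠ 2 := fun i e => by rcases hc01 i with h | h <;> rw [h] at e <;> exact absurd e (by decide)
  have c3 : ∀ i, c i ≠ 3 := fun i e => by rcases hc01 i with h | h <;> rw [h] at e <;> exact absurd e (by decide)
  have c4 : ∀ i, c i ≠ 4 := fun i e => by rcases hc01 i with h | h <;> rw [h] at e <;> exact absurd e (by decide)
  have vA2 : N (cA 2) = 0 := by decide
  have vA3 : N (cA 3) = 1 := by decide
  have vA4 : N (cA 4) = 1 := by decide
  have vB2 : N (cB 2) = 1 := by decide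
  have vB3 : N (cB 3) = 0 := by decide
  have vB4 : N (cB 4) = 1 := by decide
  have w2 : pol N (cA 2) (cB 2) = 0 := by unfold pol; decide
  have w3 : pol N (cA 3) (cB 3) = 0 := by unfold pol; decide
  have w4 : pol N (cA 4) (cB 4) = 0 := by unfold pol; decide
  have sA := fun (c : ι → Fin 5) q x => sum_update (c := c) (fun x => N (cA x)) q x
  have sB := fun (c : ι → Fin 5) q x => sum_update (c := c) (fun x => N (cB x)) q x
  have sAB := fun (c : ι → Fin 5) q x => sum_update (c := c) (fun x => pol N (cA x) (cB x)) q x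
  beta_reduce at sA sB sAB
  rcases h with ⟨hev, hk⟩ | ⟨hod, hk⟩
  · have hk0 : (Fintype.card ι : ZMod 2) = 0 := by
      rw [ZMod.natCast_eq_zero_iff]; exact hev.two_dvd
    obtain ⟨a, b, d, hab, had, hbd⟩ := Fintype.two_lt_card_iff.1 (show 2 < Fintype.card ι by omega)
    rcases ht with rfl | rfl
    · -- types 2, 3
      refine ⟨Function.update (Function.update c a 2) b 3, ?_, ?_, ?_, ?_, ?_, ?_, ?_, ?_⟩
      · refine (hc.update a c2).update b fun i => ?_
        by_cases hi : i = a
        · rw [hi, Function.update_self]; decide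
        · rw [Function.update_of_ne hi]; exact c3 i
      · rw [sA, sA, Function.update_of_ne hab.symm, hA.2, hA.1, hA.1, hk0, vA2, vA3]; decide
      · rw [sB, sB, Function.update_of_ne hab.symm, hB.2, hB.1, hB.1, hk0, vB2, vB3]; decide
      · rw [sAB, sAB, Function.update_of_ne hab.symm, hAB.2, hAB.1, hAB.1, hk0, w2, w3]; decide
      · intro _ i j
        have h2 : ∀ i, Function.update (Function.update c a 2) b 3 i = 2 → i = a := by
          intro i hi
          by_cases h1 : i = b
          · rw [h1, Function.update_self] at hi; exact absurd hi (by decide)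
          · rw [Function.update_of_ne h1] at hi
            by_contra h3
            rw [Function.update_of_ne h3] at hi
            exact c2 i hi
        exact fun h1 h3 => (h2 i h1).trans (h2 j h3).symm
      · intro _ i j
        have h2 : ∀ i, Function.update (Function.update c a 2) b 3 i = 3 → i = b := by
          intro i hi
          by_contra h1
          rw [Function.update_of_ne h1] at hi
          by_cases h3 : i = a
          · rw [h3, Function.update_self] at hi; exact absurd hi (by decide)
          · rw [Function.update_of_ne h3] at hi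
            exact c3 i hi
        exact fun h1 h3 => (h2 i h1).trans (h2 j h3).symm
      · intro _ i j h1
        exfalso
        by_cases h2 : i = b
        · rw [h2, Function.update_self] at h1; exact absurd h1 (by decide)
        · rw [Function.update_of_ne h2] at h1
          by_cases h3 : i = a
          · rw [h3, Function.update_self] at h1; exact absurd h1 (by decide)
          · rw [Function.update_of_ne h3] at h1
            exact c4 i h1
      · intro _; omega
    · refine ⟨Function.update (Function.update (Function.update c a 2) b 3) d 4, ?_, ?_, ?_, ?_, ?_, ?_, ?_, ?_⟩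
      · refine ((hc.update a c2).update b fun i => ?_).update d fun i => ?_
        · by_cases hi : i = a
          · rw [hi, Function.update_self]; decide
          · rw [Function.update_of_ne hi]; exact c3 i
        · by_cases hi : i = b
          · rw [hi, Function.update_self]; decide
          · rw [Function.update_of_ne hi]
            by_cases hi : i = a
            · rw [hi, Function.update_self]; decide
            · rw [Function.update_of_ne hi]; exact c4 i
      · rw [sA, sA, sA, Function.update_of_ne hab.symm, Function.update_of_ne hbd.symm, Function.update_of_ne had.symm,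
          hA.2, hA.1, hA.1, hA.1, hk0, vA2, vA3, vA4]; decide
      · rw [sB, sB, sB, Function.update_of_ne hab.symm, Function.update_of_ne hbd.symm, Function.update_of_ne had.symm,
          hB.2, hB.1, hB.1, hB.1, hk0, vB2, vB3, vB4]; decide
      · rw [sAB, sAB, sAB, Function.update_of_ne hab.symm, Function.update_of_ne hbd.symm, Function.update_of_ne had.symm,
          hAB.2, hAB.1, hAB.1, hAB.1, hk0, w2, w3, w4]; decide
      all_goals exact fun h => absurd h (by norm_num)
  · have hk0 : (Fintype.card ι : ZMod 2) = 1 := by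
      rw [ZMod.natCast_eq_one_iff_odd]; exact hod
    rcases ht with rfl | rfl
    · obtain ⟨a⟩ : Nonempty ι := Fintype.card_pos_iff.1 (by omega)
      refine ⟨Function.update c a 4, ?_, ?_, ?_, ?_, ?_, ?_, ?_, ?_⟩
      · exact hc.update a c4
      · rw [sA, hA.2, hA.1, hk0, vA4]; decide
      · rw [sB, hB.2, hB.1, hk0, vB4]; decide
      · rw [sAB, hAB.2, hAB.1, hk0, w4]; decide
      · intro _ i j h1
        exfalso
        by_cases h3 : i = a
        · rw [h3, Function.update_self] at h1; exact absurd h1 (by decide)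
        · rw [Function.update_of_ne h3] at h1
          exact c2 i h1
      · intro _ i j h1
        exfalso
        by_cases h3 : i = a
        · rw [h3, Function.update_self] at h1; exact absurd h1 (by decide)
        · rw [Function.update_of_ne h3] at h1
          exact c3 i h1
      · intro _ i j
        have h2 : ∀ i, Function.update c a 4 i = 4 → i = a := by
          intro i hi
          by_contra h1
          rw [Function.update_of_ne h1] at hi
          exact c4 i hi
        exact fun h1 h3 => (h2 i h1).trans (h2 j h3).symm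
      · intro _; omega
    · refine ⟨c, hc, ?_, ?_, ?_, ?_, ?_, ?_, ?_⟩
      · rw [hA.2, hk0]
      · rw [hB.2, hk0]
      · rw [hAB.2, hk0]; decide
      all_goals exact fun h => absurd h (by norm_num)

/-! ### The two vectors -/

/-- an odd order permutation -/
theorem perm_fix {σ : Equiv.Perm ι} {k : ℕ} (h : σ ^ 3 ^ k = 1) {i : ι} (hi : σ (σ i) = i) : σ i = i := by
  have hodd : Odd (3 ^ k) := Odd.pow (by decide)
  obtain ⟨m, hm⟩ := hodd
  have h1 : ∀ m : ℕ, (σ ^ (2 * m)) i = i := by
    intro m
    induction m with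
    | zero => simp
    | succ m ih =>
      have : 2 * (m + 1) = 2 * m + 1 + 1 := by ring
      rw [this, pow_succ, pow_succ, Equiv.Perm.mul_apply, Equiv.Perm.mul_apply, hi, ih]
  have h2 : (σ ^ 3 ^ k) i = i := by rw [h]; rfl
  rw [hm, pow_succ', Equiv.Perm.mul_apply, h1] at h2
  exact h2

/-- three coordinates on which `z` has no fixed vector make the commutator space large -/
theorem card_of_three {f : ι → ZMod 3} {σ : Equiv.Perm ι} {t : Fin 3 → ι} (ht : Function.Injective t)
    (hfix : ∀ u : ι → P, (∀ i, (∀ s, t s ≠ i) → u i = 0) → (∀ i, rz (f i) (u (σ⁻¹ i)) = u i) → u = 0) :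
    64 ≤ (Set.range fun u : MM ι κ => act f σ u + u).ncard := by
  classical
  have hadd := (DD_iso (κ := κ) (y := act f σ) ⟨f, σ, rfl⟩).1
  let e : (Fin 3 → P) → MM ι κ := fun w => (Function.extend t w (0 : ι → P), (0 : κ → P))
  have hes : ∀ w s, (e w).1 (t s) = w s := fun w s => ht.extend_apply w (0 : ι → P) s
  have he0 : ∀ w i, (∀ s, t s ≠ i) → (e w).1 i = 0 := fun w i hi =>
    Function.extend_apply' w (0 : ι → P) i fun ⟨s, hs⟩ => hi s hs
  have headd : ∀ w w', e (w + w') = e w + e w' := by
    intro w w'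
    refine Prod.ext (funext fun i => ?_) (by simp [e])
    by_cases hi : ∃ s, t s = i
    · obtain ⟨s, rfl⟩ := hi
      rw [hes, Prod.fst_add, Pi.add_apply, Pi.add_apply, hes, hes]
    · push Not at hi
      rw [he0 _ i hi, Prod.fst_add, Pi.add_apply, he0 _ i hi, he0 _ i hi, add_zero]
  let g : (Fin 3 → P) → MM ι κ := fun w => act f σ (e w) + e w
  have hg : Function.Injective g := by
    intro w w' hw
    have h1 : act f σ (e (w + w')) = e (w + w') := by
      rw [headd, hadd]
      have h2 : act f σ (e w) + e w = act f σ (e w') + e w' := hw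
      apply M3Core.add_eq_zero'.1
      calc act f σ (e w) + act f σ (e w') + (e w + e w')
          = (act f σ (e w) + e w) + (act f σ (e w') + e w') := by abel
        _ = 0 := by rw [h2, add_self']
    have h2 : (e (w + w')).1 = 0 := by
      refine hfix _ (fun i hi => he0 _ i hi) fun i => ?_
      exact congrFun (congrArg Prod.fst h1) i
    have h3 : w + w' = 0 := by
      funext s
      rw [← hes (w + w') s, h2]; rfl
    exact M3Core.add_eq_zero'.1 h3
  have h1 : (Set.range g).ncard = 64 := by
    rw [← Nat.card_coe_set_eq, Nat.card_range_of_injective hg]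
    simp
  rw [← h1]
  refine Set.ncard_le_ncard ?_ (Set.toFinite _)
  rintro _ ⟨w, rfl⟩
  exact ⟨e w, rfl⟩

/-- **The two vectors.** -/
theorem exists_pair {t : ℕ} (htκ : Fintype.card κ = t) (ht : t = 0 ∨ t = 1)
    (h : (Even (Fintype.card ι) ∧ 6 ≤ Fintype.card ι + 2 * t) ∨ (Odd (Fintype.card ι) ∧ 5 ≤ Fintype.card ι + 2 * t))
    {R : Subgroup (Equiv.Perm (MM ι κ))} (hR3 : IsPGroup 3 R) (hRD : R ≤ DD ι κ) :
    ∃ v₁ v₂ : MM ι κ, QM v₁ = 1 ∧ QM v₂ = 1 ∧ pol QM v₁ v₂ = 0 ∧ v₁ ≠ v₂ ∧
      (∀ y ∈ R, y v₁ = v₁ → y v₂ = v₂ → y = 1) ∧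
      ∀ z ∈ R, z ≠ 1 → (Set.range fun u => z u + u).ncard ≤ 16 →
        ∀ u, z u + u ≠ v₁ ∧ z u + u ≠ v₂ ∧ z u + u ≠ v₁ + v₂ := by
  classical
  set Γ : Subgroup (Equiv.Perm ι) := (R.subgroupOf (DD ι κ)).map perm with hΓ
  have hΓ3 : IsPGroup 3 Γ := (hR3.comap_of_injective (DD ι κ).subtype (DD ι κ).subtype_injective).map _
  have hmem : ∀ (f : ι → ZMod 3) (σ : Equiv.Perm ι), (act f σ : Equiv.Perm (MM ι κ)) ∈ R → σ ∈ Γ := by
    intro f σ hy
    exact ⟨⟨act f σ, f, σ, rfl⟩, hy, perm_act _⟩
  obtain ⟨c, C⟩ := exists_cnd hΓ3 ht h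
  have hk : 0 < Fintype.card ι := by
    rcases ht with rfl | rfl <;> rcases h with h | h
    · omega
    · omega
    · omega
    · exact h.1.pos
  obtain ⟨i₀⟩ : Nonempty ι := Fintype.card_pos_iff.1 hk
  set v₁ : MM ι κ := (fun i => cA (c i), fun _ => (1, 0)) with hv₁
  set v₂ : MM ι κ := (fun i => cB (c i), fun _ => (0, 1)) with hv₂
  have hcol : ∀ c : Fin 5, cA c ≠ cB c ∨ c = 4 := by decide
  refine ⟨v₁, v₂, ?_, ?_, ?_, ?_, ?_, ?_⟩
  · unfold QM
    rw [hv₁]
    change ∑ i, N (cA (c i)) + ∑ j : κ, hyp (1, 0) = 1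
    rw [C.nA]
    have : hyp (1, 0) = 0 := by decide
    rw [this]; simp
  · unfold QM
    change ∑ i, N (cB (c i)) + ∑ j : κ, hyp (0, 1) = 1
    rw [C.nB]
    have : hyp (0, 1) = 0 := by decide
    rw [this]; simp
  · rw [pol_QM]
    change ∑ i, pol N (cA (c i)) (cB (c i)) + ∑ j : κ, pol hyp (1, 0) (0, 1) = 0
    rw [C.nAB]
    have : pol hyp (1, 0) (0, 1) = 1 := by unfold pol; decide
    rw [this, sum_const, card_univ, htκ]
    rw [nsmul_eq_mul, mul_one]
    exact CharTwo.add_self_eq_zero _
  · intro e
    have h1 : ∀ i, c i = 4 := fun i => by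
      rcases hcol (c i) with h2 | h2
      · exact absurd (congrFun (congrArg Prod.fst e) i) h2
      · exact h2
    rcases ht with rfl | rfl
    · have h2 := C.five rfl
      obtain ⟨a, b, hab⟩ := Fintype.exists_pair_of_one_lt_card (α := ι) (by omega)
      exact hab (C.four rfl a b (h1 a) (h1 b))
    · obtain ⟨j⟩ : Nonempty κ := Fintype.card_pos_iff.1 (by omega)
      have h2 : ((1, 0) : P) = (0, 1) := congrFun (congrArg Prod.snd e) j
      exact absurd h2 (by decide)
  · intro y hy h1 h2
    obtain ⟨f, σ, rfl⟩ := hRD hy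
    have h3 : ∀ i, c (σ⁻¹ i) = c i ∧ f i = 0 := fun i =>
      col_eq _ _ _ (congrFun (congrArg Prod.fst h1) i) (congrFun (congrArg Prod.fst h2) i)
    have h4 : σ⁻¹ = 1 := C.asy _ (Γ.inv_mem (hmem f σ hy)) fun i => (h3 i).1
    have h5 : σ = 1 := inv_eq_one.1 h4
    have h6 : f = 0 := funext fun i => (h3 i).2
    rw [h5, h6, act_one]
  · intro z hz hz1 hcard u
    obtain ⟨f, σ, rfl⟩ := hRD hz
    rcases ht with rfl | rfl
    · -- `κ` is empty
      have hσ : ∃ l, σ ^ 3 ^ l = 1 := by
        obtain ⟨l, hl⟩ := hΓ3 ⟨σ, hmem f σ hz⟩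
        exact ⟨l, congrArg Subtype.val hl⟩
      obtain ⟨l, hl⟩ := hσ
      set M : Finset ι := univ.filter fun i => σ i ≠ i ∨ f i ≠ 0 with hM
      have hM' : ∀ i, i ∈ M ↔ σ i ≠ i ∨ f i ≠ 0 := fun i => by rw [hM, mem_filter]; simp
      have hzero : ∀ u : MM ι κ, ∀ i, i ∉ M → (act f σ u + u).1 i = 0 := by
        intro u i hi
        rw [hM'] at hi
        push Not at hi
        have h1 : σ⁻¹ i = i := by rw [Equiv.Perm.inv_eq_iff_eq, hi.1]
        rw [Prod.fst_add, Pi.add_apply, act_fst, h1, hi.2, rz_zero, add_self']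
      -- if a vector of the plane has all its zeros equal, `M` is large
      have hbig : ∀ w : MM ι κ, act f σ u + u = w → (∀ i j, w.1 i = 0 → w.1 j = 0 → i = j) → False := by
        intro w hw hw0
        have hMc : (univ \ M).card ≤ 1 := by
          rw [card_le_one]
          intro a ha b hb
          refine hw0 a b ?_ ?_
          · rw [← hw]; exact hzero u a (mem_sdiff.1 ha).2
          · rw [← hw]; exact hzero u b (mem_sdiff.1 hb).2
        have h4 : 4 ≤ M.card := by
          have h5 := C.five rfl
          have h6 := card_sdiff_add_card_eq_card (subset_univ M)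
          rw [card_univ] at h6
          omega
        -- three coordinates
        have hthree : 64 ≤ (Set.range fun u : MM ι κ => act f σ u + u).ncard := by
          by_cases hσ1 : σ = 1
          · obtain ⟨s, hsM, hs⟩ := exists_subset_card_eq (s := M) (n := 3) (by omega)
            let t : Fin 3 → ι := fun j => (s.equivFin.symm (Fin.cast hs.symm j) : s)
            have htM : ∀ j, t j ∈ M := fun j => hsM (s.equivFin.symm _).2
            refine card_of_three (t := t) ?_ ?_
            · intro a b hab
              have h1 := s.equivFin.symm.injective (Subtype.ext hab)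
              exact Fin.cast_injective _ h1
            · intro u hu0 huf
              funext i
              by_cases hi : ∃ j, t j = i
              · obtain ⟨j, rfl⟩ := hi
                have h1 := huf (t j)
                rw [hσ1] at h1
                have h2 := (hM' _).1 (htM j)
                rw [hσ1] at h2
                refine rz_fix _ _ h1 (h2.resolve_left fun h => h rfl)
              · push Not at hi
                exact hu0 i hi
          · obtain ⟨i, hi⟩ : ∃ i, σ i ≠ i := by
              by_contra hc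
              push Not at hc
              exact hσ1 (Equiv.ext hc)
            have h2i : σ (σ i) ≠ i := fun e => hi (perm_fix hl e)
            have h3i : σ (σ i) ≠ σ i := fun e => hi (σ.injective e)
            obtain ⟨j, hjM, hj⟩ : ∃ j ∈ M, j ∉ ({i, σ i, σ (σ i)} : Finset ι) := by
              by_contra hc
              push Not at hc
              have h5 : M.card ≤ 3 := (card_le_card hc).trans card_le_three
              omega
            simp only [mem_insert, mem_singleton, not_or] at hj
            refine card_of_three (t := ![i, σ i, j]) ?_ ?_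
            · intro a b hab
              fin_cases a <;> fin_cases b <;> simp at hab ⊢
              · exact hi hab.symm
              · exact hj.1 hab.symm
              · exact hi hab
              · exact hj.2.1 hab.symm
              · exact hj.1 hab
              · exact hj.2.1 hab
            · intro u hu0 huf
              have hstep : ∀ l, u l ≠ 0 → u (σ l) ≠ 0 := by
                intro l hl0 he
                have h1 := huf (σ l)
                have h2 : σ⁻¹ (σ l) = l := by simp
                rw [h2, he] at h1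
                exact hl0 (rz_eq_zero _ _ h1)
              have hout : ∀ l, l ≠ i → l ≠ σ i → l ≠ j → u l = 0 := by
                intro l h1 h2 h3
                refine hu0 l fun s => ?_
                fin_cases s
                · exact h1.symm
                · exact h2.symm
                · exact h3.symm
              have hs2 : u (σ (σ i)) = 0 := hout _ h2i h3i (Ne.symm hj.2.2)
              have hs1 : u (σ i) = 0 := by
                by_contra hne
                exact hstep _ hne hs2
              have hs0 : u i = 0 := by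
                by_contra hne
                exact hstep _ hne hs1
              have hsj : u j = 0 := by
                by_contra hne
                have h1 := hstep j hne
                have h2 : σ j = j := by
                  by_contra h3
                  by_cases h4 : σ j = i
                  · rw [h4] at h1; exact h1 hs0
                  · by_cases h5 : σ j = σ i
                    · rw [h5] at h1; exact h1 hs1
                    · exact h1 (hout _ h4 h5 h3)
                have h3 := huf j
                have h4 : σ⁻¹ j = j := by rw [Equiv.Perm.inv_eq_iff_eq, h2]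
                rw [h4] at h3
                exact hne (rz_fix _ _ h3 (((hM' j).1 hjM).resolve_left fun h => h h2))
              funext l
              by_cases h1 : l = i
              · rw [h1]; exact hs0
              · by_cases h2 : l = σ i
                · rw [h2]; exact hs1
                · by_cases h3 : l = j
                  · rw [h3]; exact hsj
                  · exact hout l h1 h2 h3
        omega
      have hA : ∀ c : Fin 5, cA c = 0 → c = 2 := by decide
      have hB : ∀ c : Fin 5, cB c = 0 → c = 3 := by decide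
      have hAB : ∀ c : Fin 5, cA c + cB c = 0 → c = 4 := by decide
      refine ⟨fun e => hbig _ e fun a b ha hb => ?_, fun e => hbig _ e fun a b ha hb => ?_,
        fun e => hbig _ e fun a b ha hb => ?_⟩
      · exact C.two rfl a b (hA _ ha) (hA _ hb)
      · exact C.three rfl a b (hB _ ha) (hB _ hb)
      · exact C.four rfl a b (hAB _ ha) (hAB _ hb)
    · obtain ⟨j⟩ : Nonempty κ := Fintype.card_pos_iff.1 (by omega)
      have h0 : (act f σ u + u).2 j = 0 := by
        rw [Prod.snd_add, Pi.add_apply, act_snd, add_self']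
      refine ⟨fun e => ?_, fun e => ?_, fun e => ?_⟩
      · rw [e] at h0
        have h1 : ((1, 0) : P) = 0 := h0
        exact absurd h1 (by decide)
      · rw [e] at h0
        have h1 : ((0, 1) : P) = 0 := h0
        exact absurd h1 (by decide)
      · rw [e] at h0
        have h1 : ((1, 0) : P) + (0, 1) = 0 := h0
        exact absurd h1 (by decide)

end Cfsg.Agent.H31.M3Mod
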